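import Cfsg.Agent.H714.DG.Top_m3
import Cfsg.Agent.SporadicA.PermTab
import Mathlib
import Cfsg.Agent.SporadicA.J2Hundred
import Cfsg.Agent.PermChar.SymAlt
import Cfsg.Agent.Prune
set_option linter.all false

section
prune_inst 0x7f00000000000000000000000000000000000000000000000000000000000000000000000000000000000000000000000000000000000000000000000000000000000000000000000000000000000000003fffffffffffffffffffffffffffbeffbdffffffff

-- part: H678/DG/Blk
section
set_option linter.all false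
open scoped Cfsg.Agent.FastGrp

-- part: H678/DG/Idx
section
/-!
# Degrees from an indexed orbit (helper678)

`deg_of_index` : the version of `Sph.exists_of_graph_rat` for an orbit `y 0, …, y (M - 1)` of `G` in an arbitrary
`G`-set.
-/

set_option autoImplicit false

namespace Cfsg.Agent.H678.DG.Idx

open Cfsg

universe u v

variable {G : Type u} [Group G] [Finite G] {Y : Type v} [MulAction G Y] {M n : ℕ}

/-- The orbit. -/
def Orb (y : Fin M → Y) : Type v := {x : Y // ∃ i, x = y i}

/-- The action on the orbit. -/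
@[reducible] def orbAct (y : Fin M → Y) (hcl : ∀ g : G, ∀ i, ∃ j, g • y i = y j) : MulAction G (Orb y) where
  smul g x := ⟨g • x.1, by
    obtain ⟨i, hi⟩ := x.2
    obtain ⟨j, hj⟩ := hcl g i
    exact ⟨j, by rw [hi, hj]⟩⟩
  one_smul x := Subtype.ext (one_smul G x.1)
  mul_smul g h x := Subtype.ext (mul_smul g h x.1)

/-- The indices. -/
noncomputable def eqv (y : Fin M → Y) (hinj : Function.Injective y) : Fin M ≃ Orb y :=
  Equiv.ofBijective (fun i => ⟨y i, i, rfl⟩) ⟨fun i j h => hinj (congrArg Subtype.val h), by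
    rintro ⟨x, i, rfl⟩
    exact ⟨i, rfl⟩⟩

/-- **Degrees from an indexed orbit.** -/
theorem deg_of_index (y : Fin M → Y) (hinj : Function.Injective y) (i₀ : Fin M)
    (hcl : ∀ g : G, ∀ i, ∃ j, g • y i = y j) (htrG : ∀ i, ∃ g : G, g • y i₀ = y i)
    (K : Subgroup G) (hK : ∀ g ∈ K, g • y i₀ = y i₀) (cls : Fin M → Fin n) (r : Fin n → Fin M)
    (hcls : ∀ g ∈ K, ∀ i j, g • y i = y j → cls j = cls i)
    (htr : ∀ i, ∃ g ∈ K, g • y (r (cls i)) = y i)
    (E : Y → Y → Bool) (hE : ∀ (g : G) x z, E (g • x) (g • z) = E x z) (B : Fin n → Fin n → ℕ)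
    (hB : ∀ i j, (Finset.univ.filter fun k : Fin M => E (y (r i)) (y k) = true ∧ cls k = j).card = B i j)
    (kk : Fin n → ℕ) (hk : ∀ j, (Finset.univ.filter fun i => cls i = j).card = kk j) (c : Fin n) (hc : cls i₀ = c)
    (a : Fin n → ℚ) (t : ℚ) (L : Fin n → Fin n → ℚ) (d : ℕ)
    (ha : a c = 1) (hBa : ∀ i, ∑ j, (B i j : ℚ) * a j = t * a i)
    (hL : ∀ i j, ∑ l, L i l * ((B l j : ℚ) - if l = j then t else 0) =
      (if i = j then 1 else 0) - if j = c then a i else 0)
    (hd : (d : ℚ) * ∑ j, (kk j : ℚ) * (a j * a j) = M) :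
    ∃ χ : IrrCharacter G, charDegree (χ : G → ℂ) = d := by
  classical
  let act : MulAction G (Orb y) := orbAct y hcl
  let e := eqv y hinj
  let ft : Fintype (Orb y) := Fintype.ofEquiv _ e
  have hsm : ∀ (g : G) (x : Orb y), (g • x).1 = g • x.1 := fun _ _ => rfl
  have he : ∀ i, (e i).1 = y i := fun _ => rfl
  have hes : ∀ x : Orb y, y (e.symm x) = x.1 := fun x => by rw [← he, e.apply_symm_apply]
  have htrans : MulAction.IsPretransitive G (Orb y) := by
    have key : ∀ x : Orb y, ∃ g : G, g • e i₀ = x := by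
      intro x
      obtain ⟨g, hg⟩ := htrG (e.symm x)
      refine ⟨g, Subtype.ext ?_⟩
      rw [hsm, he, hg, hes]
    refine ⟨fun x z => ?_⟩
    obtain ⟨g, rfl⟩ := key x
    obtain ⟨h, rfl⟩ := key z
    exact ⟨h * g⁻¹, by rw [mul_smul, inv_smul_smul]⟩
  have hcard : Fintype.card (Orb y) = M := by
    rw [Fintype.card_congr e.symm, Fintype.card_fin]
  refine Sph.exists_of_graph_rat (X := Orb y) (fun x z => E x.1 z.1) (fun g x z => hE g x.1 z.1) (e i₀) K
    (fun g hg => Subtype.ext (hK g hg)) (fun x => cls (e.symm x)) (fun i => e (r i)) ?_ ?_ B ?_ kk ?_ c ?_ a t L d M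
    hcard ha hBa hL hd
  · intro g hg x
    refine hcls g hg _ _ ?_
    rw [hes, hes, hsm]
  · intro x
    obtain ⟨g, hg, h⟩ := htr (e.symm x)
    refine ⟨g, hg, Subtype.ext ?_⟩
    rw [hsm, he, h, hes]
  · intro i j
    rw [← hB i j]
    refine Finset.card_bij (fun x _ => e.symm x) ?_ ?_ ?_
    · intro x hx
      rw [Finset.mem_filter] at hx ⊢
      refine ⟨Finset.mem_univ _, ?_, hx.2.2⟩
      rw [hes]
      exact hx.2.1
    · intro x _ z _ h
      exact e.symm.injective h
    · intro k hk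
      rw [Finset.mem_filter] at hk
      refine ⟨e k, ?_, e.symm_apply_apply k⟩
      rw [Finset.mem_filter]
      refine ⟨Finset.mem_univ _, hk.2.1, ?_⟩
      rw [e.symm_apply_apply]
      exact hk.2.2
  · intro j
    rw [← hk j]
    refine Finset.card_bij (fun x _ => e.symm x) ?_ ?_ ?_
    · intro x hx
      rw [Finset.mem_filter] at hx ⊢
      exact ⟨Finset.mem_univ _, hx.2⟩
    · intro x _ z _ h
      exact e.symm.injective h
    · intro k hk
      rw [Finset.mem_filter] at hk
      refine ⟨e k, ?_, e.symm_apply_apply k⟩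
      rw [Finset.mem_filter]
      refine ⟨Finset.mem_univ _, ?_⟩
      rw [e.symm_apply_apply]
      exact hk.2
  · rw [e.symm_apply_apply]
    exact hc

end Cfsg.Agent.H678.DG.Idx
end

-- part: H678/DG/Blk
section
/-!
# Degrees from an orbit of subsets, with tables (helper678)

`G` is a group of permutations of `Fin N`; `F x`, `x < M`, are subsets of `Fin N` (as Boolean functions) permuted by
`G`; the relation is "the intersection has exactly `s` elements". All the hypotheses are Boolean checks on tables.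

* `Cor G F M q` : some element of `G` maps `F x` to `F (q x)` for all `x < M`;
* `lab bs x` : the index of the interval of `x` (the orbits of the stabiliser of `F 0` are intervals);
* `deg_of_tables` : the main theorem.
-/

set_option autoImplicit false

namespace Cfsg.Agent.H678.DG.Blk

open Cfsg Equiv Cfsg.Agent.SporadicA.PermTab

/-- Subsets of `Fin N`. -/
abbrev Y (N : ℕ) : Type := Fin N → Bool

variable {N : ℕ}

instance act (G : Subgroup (Perm (Fin N))) : MulAction G (Y N) where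
  smul g f := fun i => f ((g : Perm (Fin N))⁻¹ i)
  one_smul _ := rfl
  mul_smul g h f := by
    funext i
    show f (((g * h : G) : Perm (Fin N))⁻¹ i) = f ((h : Perm (Fin N))⁻¹ ((g : Perm (Fin N))⁻¹ i))
    rw [Subgroup.coe_mul, mul_inv_rev, Perm.mul_apply]

variable {G : Subgroup (Perm (Fin N))}

theorem smul_apply (g : G) (f : Y N) (i : Fin N) : (g • f) i = f ((g : Perm (Fin N))⁻¹ i) := rfl

theorem pinv_apply (g : Perm (Fin N)) (i : Fin N) : g⁻¹ (g i) = i := g.symm_apply_apply i

theorem papply_inv (g : Perm (Fin N)) (i : Fin N) : g (g⁻¹ i) = i := g.apply_symm_apply i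

/-- The size of the intersection. -/
def isz (f f' : Y N) : ℕ := (Finset.univ.filter fun i : Fin N => f i = true ∧ f' i = true).card

theorem isz_smul (g : G) (f f' : Y N) : isz (g • f) (g • f') = isz f f' := by
  unfold isz
  refine Finset.card_bij (fun i _ => (g : Perm (Fin N))⁻¹ i) ?_ ?_ ?_
  · intro i hi
    rw [Finset.mem_filter] at hi ⊢
    exact ⟨Finset.mem_univ _, hi.2.1, hi.2.2⟩
  · intro i _ j _ h
    exact ((g : Perm (Fin N))⁻¹).injective h
  · intro i hi
    refine ⟨(g : Perm (Fin N)) i, ?_, ?_⟩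
    · rw [Finset.mem_filter] at hi ⊢
      refine ⟨Finset.mem_univ _, ?_, ?_⟩
      · rw [smul_apply, pinv_apply]; exact hi.2.1
      · rw [smul_apply, pinv_apply]; exact hi.2.2
    · exact pinv_apply _ _

variable (F : ℕ → Y N) (M : ℕ)

/-- Some element of `G` acts as `q`. -/
def Cor (G : Subgroup (Perm (Fin N))) (F : ℕ → Y N) (M : ℕ) (q : ℕ → ℕ) : Prop :=
  ∃ g : G, ∀ x < M, q x < M ∧ g • F x = F (q x)

variable {F M}

theorem Cor.id : Cor G F M (fun x => x) := ⟨1, fun _ hx => ⟨hx, one_smul _ _⟩⟩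

theorem Cor.comp {q q' : ℕ → ℕ} (h : Cor G F M q) (h' : Cor G F M q') : Cor G F M (fun x => q' (q x)) := by
  obtain ⟨g, hg⟩ := h
  obtain ⟨g', hg'⟩ := h'
  refine ⟨g' * g, fun x hx => ?_⟩
  obtain ⟨h1, h2⟩ := hg x hx
  obtain ⟨h3, h4⟩ := hg' _ h1
  exact ⟨h3, by rw [mul_smul, h2, h4]⟩

theorem Cor.ev {L : List ℕ} (h : ∀ Q ∈ L, Cor G F M (lk Q)) : Cor G F M (ev L) := by
  induction L with
  | nil => exact Cor.id
  | cons Q L ih => exact (h Q List.mem_cons_self).comp (ih fun R hR => h R (List.mem_cons_of_mem _ hR))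

/-- The set `F` is permuted by `G`. -/
theorem closed {GT : Set (Perm (Fin N))} (hG : G = Subgroup.closure GT)
    (hgen : ∀ g ∈ GT, ∀ (hg : g ∈ G), ∀ x < M, ∃ y < M, (⟨g, hg⟩ : G) • F x = F y)
    (hinj : ∀ x < M, ∀ y < M, F x = F y → x = y) (g : G) : ∀ x < M, ∃ y < M, g • F x = F y := by
  obtain ⟨g, hg⟩ := g
  subst hG
  induction hg using Subgroup.closure_induction with
  | mem g hg => exact hgen g hg (Subgroup.subset_closure hg)
  | one => exact fun x hx => ⟨x, hx, one_smul _ _⟩
  | mul a b ha hb iha ihb =>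
    intro x hx
    obtain ⟨y, hy, h1⟩ := ihb x hx
    obtain ⟨z, hz, h2⟩ := iha y hy
    refine ⟨z, hz, ?_⟩
    have e : (⟨a * b, mul_mem ha hb⟩ : Subgroup.closure GT) = ⟨a, ha⟩ * ⟨b, hb⟩ := rfl
    rw [e, mul_smul, h1, h2]
  | inv a ha iha =>
    choose! f hf1 hf2 using iha
    have hfi : Function.Injective (fun x : Fin M => (⟨f x, hf1 x x.2⟩ : Fin M)) := by
      intro x y h
      have h1 : f x = f y := congrArg Fin.val h
      have h2 := hf2 x x.2
      rw [h1, ← hf2 y y.2] at h2
      exact Fin.ext (hinj _ x.2 _ y.2 (smul_left_cancel _ h2))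
    intro x hx
    obtain ⟨y, hy⟩ := Finite.surjective_of_injective hfi ⟨x, hx⟩
    refine ⟨y, y.2, ?_⟩
    have h1 := hf2 y y.2
    have h2 : f y = x := congrArg Fin.val hy
    rw [h2] at h1
    have e : (⟨a⁻¹, inv_mem ha⟩ : Subgroup.closure GT) = (⟨a, ha⟩ : Subgroup.closure GT)⁻¹ := rfl
    rw [e, ← h1, inv_smul_smul]

/-- The interval of `x`. -/
def lab : List ℕ → ℕ → ℕ := List.rec (fun _ => 0) (fun b _ ih x => cond (Nat.blt x b) 0 (Nat.succ (ih x)))

/-- The subgroup of the stabiliser of `F 0` preserving the labels. -/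
def KK (hcl : ∀ g : G, ∀ x < M, ∃ y < M, g • F x = F y) (hinj : ∀ x < M, ∀ y < M, F x = F y → x = y)
    (lb : ℕ → ℕ) : Subgroup G where
  carrier := {g | g • F 0 = F 0 ∧ ∀ x < M, ∀ y < M, g • F x = F y → lb y = lb x}
  one_mem' := ⟨one_smul _ _, fun x hx y hy h => by
    rw [one_smul] at h
    rw [hinj x hx y hy h]⟩
  mul_mem' := by
    rintro a b ⟨h1, h2⟩ ⟨h3, h4⟩
    refine ⟨by rw [mul_smul, h3, h1], fun x hx y hy h => ?_⟩
    obtain ⟨z, hz, h5⟩ := hcl b x hx
    rw [mul_smul, h5] at h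
    rw [h2 z hz y hy h, h4 x hx z hz h5]
  inv_mem' := by
    rintro a ⟨h1, h2⟩
    refine ⟨by rw [inv_smul_eq_iff, h1], fun x hx y hy h => ?_⟩
    rw [inv_smul_eq_iff] at h
    exact (h2 y hy x hx h.symm).symm

theorem cntB_iff (p : ℕ → Bool) (n m : ℕ) :
    cntB p n m = true ↔ ((Finset.range n).filter (fun i => p i = true)).card = m := by
  constructor
  · exact card_of_cntB p n m
  · rintro rfl
    induction n with
    | zero => rfl
    | succ n ih =>
      rw [cntB_succ, Finset.range_add_one, Finset.filter_insert]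
      cases hp : p n with
      | true =>
        rw [if_pos rfl, Finset.card_insert_of_notMem (by simp)]
        exact ih
      | false =>
        rw [if_neg (by simp)]
        exact ih

theorem card_fin (p : ℕ → Bool) (n : ℕ) :
    ((Finset.univ : Finset (Fin n)).filter (fun i : Fin n => p i = true)).card =
      ((Finset.range n).filter (fun i => p i = true)).card :=
  card_fin_of_cntB p n _ ((cntB_iff p n _).2 rfl)

/-- bit `i` of `m` -/
def tb (m i : ℕ) : Bool := Nat.beq (Nat.land (Nat.shiftRight m i) 1) 1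

theorem tb_eq (m i : ℕ) : tb m i = m.testBit i := by
  unfold tb Nat.testBit
  have h : Nat.land (Nat.shiftRight m i) 1 = 1 &&& (m >>> i) := Nat.land_comm _ _
  rw [h]
  rcases Nat.mod_two_eq_zero_or_one (m >>> i) with h2 | h2
  · rw [Nat.one_and_eq_mod_two, h2]; rfl
  · rw [Nat.one_and_eq_mod_two, h2]; rfl

/-- equality of Booleans -/
def beqb (x y : Bool) : Bool := Bool.rec (Bool.rec true false y) (Bool.rec false true y) x

theorem beqb_iff (x y : Bool) : beqb x y = true ↔ x = y := by cases x <;> cases y <;> simp [beqb]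

/-- disjunction -/
def bor (x y : Bool) : Bool := Bool.rec y true x

theorem bor_iff (x y : Bool) : bor x y = true ↔ x = true ∨ y = true := by cases x <;> cases y <;> simp [bor]

/-- some member of a list satisfies `p` -/
def anyB {α : Type} (p : α → Bool) : List α → Bool := List.rec false (fun a _ ih => bor (p a) ih)

theorem anyB_iff {α : Type} (p : α → Bool) (l : List α) : anyB p l = true ↔ ∃ a ∈ l, p a = true := by
  induction l with
  | nil => simp [anyB]
  | cons a l ih =>
    have h : anyB p (a :: l) = bor (p a) (anyB p l) := rfl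
    rw [h, bor_iff, ih]
    simp

/-- all members of a list satisfy `p` -/
def allL {α : Type} (p : α → Bool) : List α → Bool := List.rec true (fun a _ ih => band (p a) ih)

theorem allL_iff {α : Type} (p : α → Bool) (l : List α) : allL p l = true ↔ ∀ a ∈ l, p a = true := by
  induction l with
  | nil => simp [allL]
  | cons a l ih =>
    have h : allL p (a :: l) = band (p a) (allL p l) := rfl
    rw [h, band_eq_true, ih]
    simp

/-- the second components -/
def snds : List (ℕ × ℕ) → List ℕ := List.rec [] (fun a _ ih => a.2 :: ih)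

theorem mem_snds {w : List (ℕ × ℕ)} {Q : ℕ} (h : Q ∈ snds w) : ∃ P, (P, Q) ∈ w := by
  induction w with
  | nil => simp [snds] at h
  | cons a w ih =>
    have h1 : snds (a :: w) = a.2 :: snds w := rfl
    rw [h1, List.mem_cons] at h
    rcases h with rfl | h
    · exact ⟨a.1, List.mem_cons_self⟩
    · obtain ⟨P, hP⟩ := ih h
      exact ⟨P, List.mem_cons_of_mem _ hP⟩

/-- the `j`-th root -/
def rt (bs : List ℕ) : ℕ → ℕ := List.rec (fun _ => 0) (fun b _ ih j => Nat.rec b (fun j' _ => ih j') j) (0 :: bs)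

/-- the subsets -/
def Fm (N : ℕ) (mk : ℕ → ℕ) (x : ℕ) : Y N := fun i => tb (mk x) i

/-- A table of the group and the table of its action on the subsets. -/
def chkPQ (N M : ℕ) (mk : ℕ → ℕ) (pq : ℕ × ℕ) : Bool :=
  allB (fun x => forceB (lk pq.2 x) fun y => band (Nat.blt y M) (forceB (mk x) fun m => forceB (mk y) fun m' =>
    allB (fun i => beqb (tb m' (lk pq.1 i)) (tb m i)) N)) M

theorem cor_of_chkPQ {mk : ℕ → ℕ} {pq : ℕ × ℕ} (h : chkPQ N M mk pq = true) (g : G)
    (hg : ∀ i : Fin N, (((g : Perm (Fin N)) i : Fin N) : ℕ) = lk pq.1 i) :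
    ∀ x < M, lk pq.2 x < M ∧ g • Fm N mk x = Fm N mk (lk pq.2 x) := by
  intro x hx
  have h1 := (allB_iff _ _).1 h x hx
  rw [forceB_eq, band_eq_true, forceB_eq, forceB_eq] at h1
  refine ⟨Nat.blt_eq ▸ h1.1, ?_⟩
  funext i
  rw [smul_apply]
  have h2 := (beqb_iff _ _).1 ((allB_iff _ _).1 h1.2 (((g : Perm (Fin N))⁻¹ i : Fin N) : ℕ) (Fin.is_lt _))
  rw [← hg, papply_inv] at h2
  exact h2.symm

/-- distinctness -/
def chkInj (M : ℕ) (N : ℕ) (mk : ℕ → ℕ) : Bool :=
  allB (fun x => forceB (mk x) fun m => band (Nat.blt m (Nat.pow 2 N)) (allB (fun y => nbeq m (mk y)) x)) M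

theorem inj_of_chk {mk : ℕ → ℕ} (h : chkInj M N mk = true) :
    ∀ x < M, ∀ y < M, Fm N mk x = Fm N mk y → x = y := by
  have key : ∀ x < M, mk x < 2 ^ N ∧ ∀ y < x, mk x ≠ mk y := by
    intro x hx
    have h1 := (allB_iff _ _).1 h x hx
    rw [forceB_eq, band_eq_true] at h1
    refine ⟨Nat.blt_eq ▸ h1.1, fun y hy => ?_⟩
    exact (nbeq_iff _ _).1 ((allB_iff _ _).1 h1.2 y hy)
  have heq : ∀ x < M, ∀ y < M, Fm N mk x = Fm N mk y → mk x = mk y := by
    intro x hx y hy hxy
    refine Nat.eq_of_testBit_eq fun i => ?_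
    by_cases hi : i < N
    · have h1 := congrFun hxy ⟨i, hi⟩
      rw [← tb_eq, ← tb_eq]
      exact h1
    · have h1 : (2 : ℕ) ^ N ≤ 2 ^ i := Nat.pow_le_pow_right (by norm_num) (not_lt.1 hi)
      rw [Nat.testBit_lt_two_pow (lt_of_lt_of_le (key x hx).1 h1),
        Nat.testBit_lt_two_pow (lt_of_lt_of_le (key y hy).1 h1)]
  intro x hx y hy hxy
  have h1 := heq x hx y hy hxy
  rcases lt_trichotomy x y with h2 | h2 | h2
  · exact absurd h1.symm ((key y hy).2 x h2)
  · exact h2
  · exact absurd h1 ((key x hx).2 y h2)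

/-- A word of the stabiliser preserving the labels. -/
def chkW (M : ℕ) (bs : List ℕ) (w : List (ℕ × ℕ)) : Bool :=
  band (Nat.beq (ev (snds w) 0) 0) (allB (fun x => Nat.beq (lab bs (ev (snds w) x)) (lab bs x)) M)

/-- The forest of parents. -/
def chkF (M : ℕ) (bs : List ℕ) (PQ : List (ℕ × ℕ)) (KW : List (List (ℕ × ℕ))) (pr : ℕ → ℕ) : Bool :=
  allB (fun x => bor (Nat.beq x 0) (forceB (pr x) fun y => band (Nat.blt y x)
    (bor (band (Nat.beq (lab bs y) (lab bs x)) (anyB (fun w => Nat.beq (ev (snds w) y) x) KW))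
      (band (Nat.beq (rt bs (lab bs x)) x) (anyB (fun pq => Nat.beq (lk pq.2 y) x) PQ))))) M

/-- The labels are smaller than `n` and the classes have sizes `kk`. -/
def chkK (M n : ℕ) (bs : List ℕ) (kk : ℕ → ℕ) : Bool :=
  band (allB (fun x => Nat.blt (lab bs x) n) M) (band (allB (fun j => Nat.blt (rt bs j) M) n)
    (allB (fun j => cntB (fun x => Nat.beq (lab bs x) j) M (kk j)) n))

/-- The collapsed matrix. -/
def chkB (N M n s : ℕ) (mk : ℕ → ℕ) (bs : List ℕ) (B : ℕ → ℕ → ℕ) : Bool :=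
  allB (fun i => forceB (mk (rt bs i)) fun m => allB (fun j => cntB (fun y => band (Nat.beq (lab bs y) j)
    (forceB (Nat.land m (mk y)) fun m' => cntB (fun i => tb m' i) N s)) M (B i j)) n) n

/-- the rows `f x`, `x < M`, packed -/
def pkRows (N : ℕ) (f : ℕ → ℕ) (M : ℕ) : ℕ :=
  Nat.rec 0 (fun x r => Nat.add (Nat.mul (Nat.pow 2 N) r) (Nat.mod (f x) (Nat.pow 2 N))) M

theorem testBit_pkRows {N : ℕ} (f : ℕ → ℕ) {j : ℕ} (hj : j < N) (x d : ℕ) :
    (pkRows N f (x + 1 + d)).testBit (N * d + j) = (f x).testBit j := by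
  induction d with
  | zero =>
    show (2 ^ N * pkRows N f x + f x % 2 ^ N).testBit (N * 0 + j) = _
    rw [Nat.testBit_two_pow_mul_add _ (Nat.mod_lt _ (Nat.two_pow_pos N)), Nat.mul_zero, Nat.zero_add, if_pos hj,
      Nat.testBit_mod_two_pow, decide_eq_true hj, Bool.true_and]
  | succ d ih =>
    show (2 ^ N * pkRows N f (x + 1 + d) + f (x + 1 + d) % 2 ^ N).testBit (N * (d + 1) + j) = _
    rw [Nat.testBit_two_pow_mul_add _ (Nat.mod_lt _ (Nat.two_pow_pos N)), Nat.mul_succ, if_neg (by omega), ← ih]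
    exact congrArg _ (by omega)

/-- `chkPQ` by columns -/
def chkPQc (N M : ℕ) (mk : ℕ → ℕ) (pq : ℕ × ℕ) : Bool :=
  band (allB (fun x => Nat.blt (lk pq.2 x) M) M) (forceB (pkRows N mk M) fun A =>
    forceB (pkRows N (fun x => mk (lk pq.2 x)) M) fun Z => forceB (repR N M) fun R => allB (fun i => band (Nat.blt (lk pq.1 i) N)
      (Nat.beq (Nat.land (Nat.shiftRight Z (lk pq.1 i)) R) (Nat.land (Nat.shiftRight A i) R))) N)

theorem chkPQ_of_c {N M : ℕ} {mk : ℕ → ℕ} {PQ : List (ℕ × ℕ)} (h : allL (chkPQc N M mk) PQ = true) :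
    allL (chkPQ N M mk) PQ = true := by
  refine (allL_iff _ _).2 fun pq hpq => (allB_iff _ _).2 fun x hx => ?_
  obtain ⟨h1, h2⟩ := (band_eq_true _ _).1 ((allL_iff _ _).1 h pq hpq)
  rw [forceB_eq, forceB_eq, forceB_eq] at h2
  rw [forceB_eq, forceB_eq, forceB_eq]
  refine (band_eq_true _ _).2 ⟨(allB_iff _ _).1 h1 x hx, (allB_iff _ _).2 fun i hi => (beqb_iff _ _).2 ?_⟩
  obtain ⟨h3, h4⟩ := (band_eq_true _ _).1 ((allB_iff _ _).1 h2 i hi)
  obtain ⟨d, rfl⟩ : ∃ d, M = x + 1 + d := ⟨M - (x + 1), by omega⟩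
  have h5 : (pkRows N (fun x => mk (lk pq.2 x)) (x + 1 + d) >>> lk pq.1 i &&& repR N (x + 1 + d)).testBit (N * d) =
      (pkRows N mk (x + 1 + d) >>> i &&& repR N (x + 1 + d)).testBit (N * d) :=
    congrArg (fun z => Nat.testBit z (N * d)) (Nat.eq_of_beq_eq_true h4)
  rw [Nat.testBit_and, Nat.testBit_and, (testBit_repR _ _ _).2 ⟨d, by omega, rfl⟩, Bool.and_true, Bool.and_true,
    Nat.testBit_shiftRight, Nat.testBit_shiftRight, Nat.add_comm (lk pq.1 i), Nat.add_comm i, testBit_pkRows _ (Nat.blt_eq ▸ h3),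
    testBit_pkRows _ hi] at h5
  rw [tb_eq, tb_eq]
  exact h5

/-- the residues of the first rows -/
def bmRes (p : ℕ) (mk : ℕ → ℕ) (x : ℕ) : ℕ := Nat.rec 0 (fun y r => Nat.lor r (Nat.shiftLeft 1 (Nat.mod (mk y) p))) x

theorem tb_bmRes (p : ℕ) (mk : ℕ → ℕ) {y : ℕ} : ∀ x, y < x → (bmRes p mk x).testBit (mk y % p) = true := by
  intro x
  induction x with
  | zero => exact fun h => absurd h (Nat.not_lt_zero _)
  | succ x ih =>
    intro h
    show (bmRes p mk x ||| 1 <<< (mk x % p)).testBit _ = true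
    rw [Nat.testBit_or, Bool.or_eq_true, Nat.one_shiftLeft]
    exact (Nat.lt_succ_iff_lt_or_eq.1 h).imp ih fun h1 => by rw [h1]; exact Nat.testBit_two_pow_self

/-- `chkInj` by residues modulo `p` -/
theorem chkInj_of_res {M N : ℕ} {mk : ℕ → ℕ} (p : ℕ) (h : allB (fun x => band (Nat.blt (mk x) (Nat.pow 2 N))
    (beqb (tb (bmRes p mk x) (Nat.mod (mk x) p)) false)) M = true) : chkInj M N mk = true := by
  refine (allB_iff _ _).2 fun x hx => ?_
  obtain ⟨h1, h2⟩ := (band_eq_true _ _).1 ((allB_iff _ _).1 h x hx)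
  rw [forceB_eq]
  refine (band_eq_true _ _).2 ⟨h1, (allB_iff _ _).2 fun y hy => (nbeq_iff _ _).2 fun h3 => ?_⟩
  rw [beqb_iff, tb_eq, h3] at h2
  exact Bool.false_ne_true (h2.symm.trans (tb_bmRes p mk x hy))

private theorem lane7 (k : ℕ) : ∀ z : ℕ, z &&& (Nat.rec 0 (fun _ K => 2 ^ 7 * K + 1) k : ℕ) ≡
    ∑ j ∈ Finset.range k, (z.testBit (7 * j)).toNat [MOD 127] := by
  induction k with
  | zero => exact fun z => by rw [Finset.sum_range_zero]; exact congrArg (· % 127) (Nat.and_zero z)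
  | succ k ih =>
    intro z
    have h := ih (z / 2 ^ 7)
    simp only [Nat.testBit_div_two_pow] at h
    show z &&& (2 ^ 7 * (Nat.rec 0 (fun _ K => 2 ^ 7 * K + 1) k : ℕ) + 1) ≡ _ [MOD 127]
    generalize (Nat.rec 0 (fun _ K => 2 ^ 7 * K + 1) k : ℕ) = K at h ⊢
    have h1 : z % 2 ^ 7 &&& 1 = (z.testBit (7 * 0)).toNat := by
      rw [Nat.and_one_is_mod, Nat.toNat_testBit]
      omega
    rw [← Nat.div_add_mod (z &&& _) (2 ^ 7), Nat.and_div_two_pow, Nat.and_mod_two_pow, show (2 ^ 7 * K + 1) / 2 ^ 7 = K by omega,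
      show (2 ^ 7 * K + 1) % 2 ^ 7 = 1 by omega, h1, Finset.sum_range_succ']
    refine Nat.ModEq.add_right _ (Nat.ModEq.trans ?_ h)
    unfold Nat.ModEq
    omega

/-- the number of bits below 105 -/
def pcLane (x : ℕ) : ℕ :=
  Nat.mod (Nat.rec 0 (fun i r => Nat.add r (Nat.land (Nat.shiftRight x i) 319408025254357014550350413953)) 7) 127

theorem pcLane_eq (x : ℕ) : pcLane x = ((Finset.range (7 * 15)).filter (fun i => x.testBit i = true)).card := by
  have e : (Nat.rec 0 (fun _ K => 2 ^ 7 * K + 1) 15 : ℕ) = 319408025254357014550350413953 := by decide +kernel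
  have h1 : ∀ n : ℕ, (Nat.rec 0 (fun i r => Nat.add r (Nat.land (Nat.shiftRight x i) 319408025254357014550350413953)) n : ℕ) ≡
      ∑ i ∈ Finset.range n, ∑ j ∈ Finset.range 15, (x.testBit (7 * j + i)).toNat [MOD 127] := fun n => by
    induction n with
    | zero => rw [Finset.sum_range_zero]; exact Nat.ModEq.refl 0
    | succ n ih =>
      rw [Finset.sum_range_succ]
      have h := lane7 15 (x >>> n)
      simp only [Nat.testBit_shiftRight, Nat.add_comm n, e] at h
      exact ih.add h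
  have h0 : ∀ k : ℕ, ∑ q ∈ Finset.range (7 * k), (x.testBit q).toNat =
      ∑ j ∈ Finset.range k, ∑ i ∈ Finset.range 7, (x.testBit (7 * j + i)).toNat := fun k => by
    induction k with
    | zero => rw [Nat.mul_zero, Finset.sum_range_zero, Finset.sum_range_zero]
    | succ k ih => rw [Nat.mul_succ, Finset.sum_range_add, ih, Finset.sum_range_succ _ k]
  have h2 := h1 7
  have h3 := Finset.card_filter_le (Finset.range (7 * 15)) (fun i => x.testBit i = true)
  rw [Finset.card_range] at h3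
  rw [Finset.sum_comm, ← h0, Finset.sum_congr rfl (g := fun q => if x.testBit q = true then 1 else 0)
    fun p _ => by cases x.testBit p <;> rfl, ← Finset.card_filter] at h2
  exact Eq.trans h2 (Nat.mod_eq_of_lt (h3.trans_lt (by decide)))

/-- the number of bits below 100 -/
def pcHun (m : ℕ) : ℕ := force (Nat.mod m (Nat.pow 2 100)) pcLane

theorem cntB_pcHun (m s : ℕ) : cntB (fun i => tb m i) 100 s = Nat.beq (pcHun m) s := by
  have h3 : (Finset.range (7 * 15)).filter (fun i => (m % 2 ^ 100).testBit i = true) =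
      (Finset.range 100).filter (fun i => tb m i = true) := by
    ext i
    rw [Finset.mem_filter, Finset.mem_filter, Finset.mem_range, Finset.mem_range, tb_eq, Nat.testBit_mod_two_pow,
      Bool.and_eq_true, decide_eq_true_eq]
    exact ⟨fun h => h.2, fun h => ⟨by omega, h⟩⟩
  have h4 : pcHun m = pcLane (m % 2 ^ 100) := force_eq _ _
  rw [Bool.eq_iff_iff, cntB_iff, h4, pcLane_eq, h3, Nat.beq_eq]

/-- `chkB` with the fast count of bits -/
theorem chkB_of_pc {M n s : ℕ} {mk : ℕ → ℕ} {bs : List ℕ} {B : ℕ → ℕ → ℕ} (h : allB (fun i => forceB (mk (rt bs i)) fun m =>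
    allB (fun j => cntB (fun y => band (Nat.beq (lab bs y) j) (Nat.beq (pcHun (Nat.land m (mk y))) s)) M (B i j)) n) n = true) :
    chkB 100 M n s mk bs B = true := by
  simpa only [chkB, forceB_eq, cntB_pcHun] using h

theorem isz_eq (mk : ℕ → ℕ) (x y s : ℕ) : (Nat.beq (isz (Fm N mk x) (Fm N mk y)) s) =
    cntB (fun i => tb (Nat.land (mk x) (mk y)) i) N s := by
  have h1 : isz (Fm N mk x) (Fm N mk y) =
      ((Finset.range N).filter (fun i => tb (Nat.land (mk x) (mk y)) i = true)).card := by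
    rw [← card_fin]
    unfold isz Fm
    congr 1
    ext i
    simp only [Finset.mem_filter, Finset.mem_univ, true_and, tb_eq]
    have h2 : Nat.land (mk x) (mk y) = mk x &&& mk y := rfl
    rw [h2, Nat.testBit_and, Bool.and_eq_true]
  rw [Bool.eq_iff_iff, cntB_iff, ← h1]
  exact ⟨Nat.eq_of_beq_eq_true, fun h => by rw [h]; exact Nat.beq_refl _⟩

/-- **Degrees from tables.** -/
theorem deg_of_tables {n s : ℕ} {mk : ℕ → ℕ} {GT : Set (Perm (Fin N))} (hG : G = Subgroup.closure GT)
    {PQ : List (ℕ × ℕ)} (hGT : ∀ g ∈ GT, ∃ pq ∈ PQ, ∀ i : Fin N, ((g i : Fin N) : ℕ) = lk pq.1 i)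
    (hin : ∀ pq ∈ PQ, InG G pq.1) {bs : List ℕ} {KW : List (List (ℕ × ℕ))} (hKW : ∀ w ∈ KW, ∀ pq ∈ w, pq ∈ PQ)
    {pr : ℕ → ℕ} {kk : ℕ → ℕ} {B : ℕ → ℕ → ℕ} (hM : 0 < M) (hlab0 : lab bs 0 = 0)
    (h1 : allL (chkPQ N M mk) PQ = true) (h2 : chkInj M N mk = true) (h3 : allL (chkW M bs) KW = true)
    (h4 : chkF M bs PQ KW pr = true) (h5 : chkK M n bs kk = true) (h6 : chkB N M n s mk bs B = true)
    (hn : 0 < n) (a : Fin n → ℚ) (t : ℚ) (L : Fin n → Fin n → ℚ) (d : ℕ)
    (ha : a ⟨0, hn⟩ = 1) (hBa : ∀ i : Fin n, ∑ j : Fin n, (B i j : ℚ) * a j = t * a i)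
    (hL : ∀ i j : Fin n, ∑ l : Fin n, L i l * ((B l j : ℚ) - if l = j then t else 0) =
      (if i = j then 1 else 0) - if j = ⟨0, hn⟩ then a i else 0)
    (hd : (d : ℚ) * ∑ j : Fin n, (kk j : ℚ) * (a j * a j) = M) :
    ∃ χ : IrrCharacter G, charDegree (χ : G → ℂ) = d := by
  classical
  set F := Fm N mk with hF
  have hinj := inj_of_chk (N := N) h2
  have hPQ : ∀ pq ∈ PQ, Cor G F M (lk pq.2) := by
    intro pq hpq
    obtain ⟨g, hg, hgi⟩ := hin pq hpq
    exact ⟨⟨g, hg⟩, cor_of_chkPQ ((allL_iff _ _).1 h1 pq hpq) ⟨g, hg⟩ hgi⟩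
  have hcl : ∀ g : G, ∀ x < M, ∃ y < M, g • F x = F y := closed hG (by
    intro g hgT hg x hx
    obtain ⟨pq, hpq, hgi⟩ := hGT g hgT
    obtain ⟨h7, h8⟩ := cor_of_chkPQ ((allL_iff _ _).1 h1 pq hpq) (⟨g, hg⟩ : G) hgi x hx
    exact ⟨_, h7, h8⟩) hinj
  have hword : ∀ w ∈ KW, Cor G F M (ev (snds w)) := by
    intro w hw
    refine Cor.ev fun Q hQ => ?_
    obtain ⟨P, hP⟩ := mem_snds hQ
    exact hPQ _ (hKW w hw _ hP)
  let K := KK hcl hinj (lab bs)
  have hwK : ∀ w ∈ KW, ∃ g ∈ K, ∀ x < M, ev (snds w) x < M ∧ g • F x = F (ev (snds w) x) := by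
    intro w hw
    obtain ⟨g, hg⟩ := hword w hw
    have h7 := (allL_iff _ _).1 h3 w hw
    unfold chkW at h7
    rw [band_eq_true] at h7
    have h8 : ev (snds w) 0 = 0 := Nat.eq_of_beq_eq_true h7.1
    refine ⟨g, ⟨?_, ?_⟩, hg⟩
    · have h9 := (hg 0 hM).2
      rwa [h8] at h9
    · intro x hx y hy hxy
      have h9 := hg x hx
      rw [h9.2] at hxy
      rw [← hinj _ h9.1 _ hy hxy]
      exact Nat.eq_of_beq_eq_true ((allB_iff _ _).1 h7.2 x hx)
  unfold chkF at h4
  rw [allB_iff] at h4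
  have hreachG : ∀ x, x < M → ∃ g : G, g • F 0 = F x := by
    intro x
    induction x using Nat.strong_induction_on with
    | _ x ih =>
      intro hx
      have h7 := h4 x hx
      rw [bor_iff, forceB_eq, band_eq_true, bor_iff, band_eq_true, band_eq_true, anyB_iff, anyB_iff] at h7
      rcases h7 with h7 | ⟨h7, h8⟩
      · rw [Nat.eq_of_beq_eq_true h7]
        exact ⟨1, one_smul _ _⟩
      · have h9 : pr x < x := Nat.blt_eq ▸ h7
        obtain ⟨g, hg⟩ := ih _ h9 (h9.trans hx)
        rcases h8 with ⟨-, w, hw, h8⟩ | ⟨-, pq, hpq, h8⟩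
        · obtain ⟨k, -, hk⟩ := hwK w hw
          refine ⟨k * g, ?_⟩
          rw [mul_smul, hg, (hk _ (h9.trans hx)).2, Nat.eq_of_beq_eq_true h8]
        · obtain ⟨k, hk⟩ := hPQ pq hpq
          refine ⟨k * g, ?_⟩
          rw [mul_smul, hg, (hk _ (h9.trans hx)).2, Nat.eq_of_beq_eq_true h8]
  have hreachK : ∀ x, x < M → ∃ g ∈ K, g • F (rt bs (lab bs x)) = F x := by
    intro x
    induction x using Nat.strong_induction_on with
    | _ x ih =>
      intro hx
      have h7 := h4 x hx
      rw [bor_iff, forceB_eq, band_eq_true, bor_iff, band_eq_true, band_eq_true, anyB_iff, anyB_iff] at h7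
      rcases h7 with h7 | ⟨h7, h8⟩
      · rw [Nat.eq_of_beq_eq_true h7, hlab0]
        exact ⟨1, K.one_mem, one_smul _ _⟩
      · have h9 : pr x < x := Nat.blt_eq ▸ h7
        rcases h8 with ⟨h10, w, hw, h8⟩ | ⟨h10, -⟩
        · obtain ⟨g, hg, hgx⟩ := ih _ h9 (h9.trans hx)
          obtain ⟨k, hkK, hk⟩ := hwK w hw
          refine ⟨k * g, K.mul_mem hkK hg, ?_⟩
          rw [← Nat.eq_of_beq_eq_true h10, mul_smul, hgx, (hk _ (h9.trans hx)).2, Nat.eq_of_beq_eq_true h8]
        · rw [Nat.eq_of_beq_eq_true h10]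
          exact ⟨1, K.one_mem, one_smul _ _⟩
  unfold chkK at h5
  rw [band_eq_true, band_eq_true, allB_iff, allB_iff, allB_iff] at h5
  obtain ⟨h5a, h5b, h5c⟩ := h5
  have hlt : ∀ x < M, lab bs x < n := fun x hx => Nat.blt_eq ▸ h5a x hx
  have hrt : ∀ j < n, rt bs j < M := fun j hj => Nat.blt_eq ▸ h5b j hj
  refine Idx.deg_of_index (G := G) (Y := Y N) (M := M) (n := n) (fun x => F x) ?_ ⟨0, hM⟩ ?_ ?_ K ?_
    (fun x => ⟨lab bs x, hlt x x.2⟩) (fun j => ⟨rt bs j, hrt j j.2⟩) ?_ ?_
    (fun f f' => Nat.beq (isz f f') s) ?_ (fun i j => B i j) ?_ (fun j => kk j) ?_ ⟨0, hn⟩ ?_ a t L d ha hBa hL hd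
  · intro x y hxy
    exact Fin.ext (hinj x x.2 y y.2 hxy)
  · intro g x
    obtain ⟨y, hy, h⟩ := hcl g x x.2
    exact ⟨⟨y, hy⟩, h⟩
  · intro x
    exact hreachG x x.2
  · intro g hg
    exact hg.1
  · intro g hg x y hxy
    exact Fin.ext (hg.2 x x.2 y y.2 hxy)
  · intro x
    exact hreachK x x.2
  · intro g f f'
    show Nat.beq (isz (g • f) (g • f')) s = Nat.beq (isz f f') s
    rw [isz_smul]
  · intro i j
    unfold chkB at h6
    rw [allB_iff] at h6
    have h7 := h6 i i.2
    rw [forceB_eq, allB_iff] at h7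
    have h8 := (cntB_iff _ _ _).1 (h7 j j.2)
    rw [← card_fin] at h8
    rw [← h8]
    congr 1
    ext y
    simp only [Finset.mem_filter, Finset.mem_univ, true_and]
    rw [band_eq_true, forceB_eq, ← isz_eq]
    constructor
    · rintro ⟨h9, h10⟩
      refine ⟨?_, h9⟩
      have h11 : lab bs y = j := congrArg Fin.val h10
      rw [h11]
      exact Nat.beq_refl _
    · rintro ⟨h9, h10⟩
      exact ⟨h10, Fin.ext (Nat.eq_of_beq_eq_true h9)⟩
  · intro j
    have h8 := (cntB_iff _ _ _).1 (h5c j j.2)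
    rw [← card_fin] at h8
    rw [← h8]
    congr 1
    ext y
    simp only [Finset.mem_filter, Finset.mem_univ, true_and]
    constructor
    · intro h
      have h11 : lab bs y = j := congrArg Fin.val h
      rw [h11]
      exact Nat.beq_refl _
    · intro h
      exact Fin.ext (Nat.eq_of_beq_eq_true h)
  · exact Fin.ext hlab0

end Cfsg.Agent.H678.DG.Blk
end

private theorem dce_d530dc18287f : _root_.True := by
  try have : _root_.True := by simp only [_root_.Cfsg.Agent.H678.DG.Blk.anyB.eq_1]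
  try have : _root_.True := by simp only [_root_.Cfsg.Agent.H678.DG.Blk.bor.eq_1]
  try have : _root_.True := by simp only [_root_.Cfsg.Agent.H678.DG.Blk.beqb.eq_1]
  try have : _root_.True := by simp only [_root_.Cfsg.Agent.H678.DG.Blk.allL.eq_1]
  try have : _root_.True := by simp only [_root_.Cfsg.Agent.H678.DG.Blk.snds.eq_1]
  exact _root_.True.intro
end

-- part: H678/DG/Pts
section
set_option linter.all false
open scoped Cfsg.Agent.FastGrp

-- part: H678/DG/Orbital
section
/-!
# Degrees from an orbital (helper678)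

`deg_of_orbital` : the version of `Idx.deg_of_index` where the relation is the orbital of a class `c₁` invariant under
the stabiliser; the collapsed matrix is counted inside the class.
-/

set_option autoImplicit false

namespace Cfsg.Agent.H678.DG.Orbital

open Cfsg

universe u v

variable {G : Type u} [Group G] [Finite G] {Y : Type v} [MulAction G Y] {M n : ℕ}

/-- **Degrees from an orbital.** -/
theorem deg_of_orbital (y : Fin M → Y) (hinj : Function.Injective y) (i₀ : Fin M)
    (hcl : ∀ g : G, ∀ i, ∃ j, g • y i = y j) (htrG : ∀ i, ∃ g : G, g • y i₀ = y i)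
    (K : Subgroup G) (hK : ∀ g ∈ K, g • y i₀ = y i₀) (cls : Fin M → Fin n) (r : Fin n → Fin M)
    (hcls : ∀ g ∈ K, ∀ i j, g • y i = y j → cls j = cls i)
    (htr : ∀ i, ∃ g ∈ K, g • y (r (cls i)) = y i) (c₁ : Fin n)
    (hc₁ : ∀ g : G, g • y i₀ = y i₀ → ∀ k k', cls k = c₁ → g • y k = y k' → cls k' = c₁)
    (γ : Fin n → G) (hγ : ∀ i, γ i • y i₀ = y (r i)) (σ : Fin n → Fin M → Fin M)
    (hσ : ∀ i k, γ i • y k = y (σ i k)) (B : Fin n → Fin n → ℕ)
    (hB : ∀ i j, (Finset.univ.filter fun k : Fin M => cls k = c₁ ∧ cls (σ i k) = j).card = B i j)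
    (kk : Fin n → ℕ) (hk : ∀ j, (Finset.univ.filter fun i => cls i = j).card = kk j) (c : Fin n) (hc : cls i₀ = c)
    (a : Fin n → ℚ) (t : ℚ) (L : Fin n → Fin n → ℚ) (d : ℕ)
    (ha : a c = 1) (hBa : ∀ i, ∑ j, (B i j : ℚ) * a j = t * a i)
    (hL : ∀ i j, ∑ l, L i l * ((B l j : ℚ) - if l = j then t else 0) =
      (if i = j then 1 else 0) - if j = c then a i else 0)
    (hd : (d : ℚ) * ∑ j, (kk j : ℚ) * (a j * a j) = M) :
    ∃ χ : IrrCharacter G, charDegree (χ : G → ℂ) = d := by
  classical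
  refine Idx.deg_of_index y hinj i₀ hcl htrG K hK cls r hcls htr
    (fun x z => decide (∃ (g : G) (k : Fin M), g • y i₀ = x ∧ cls k = c₁ ∧ g • y k = z)) ?_ B ?_ kk hk c hc a t L d ha
    hBa hL hd
  · intro g x z
    rw [decide_eq_decide]
    constructor
    · rintro ⟨h, k, h1, h2, h3⟩
      exact ⟨g⁻¹ * h, k, by rw [mul_smul, h1, inv_smul_smul], h2, by rw [mul_smul, h3, inv_smul_smul]⟩
    · rintro ⟨h, k, h1, h2, h3⟩
      exact ⟨g * h, k, by rw [mul_smul, h1], h2, by rw [mul_smul, h3]⟩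
  · intro i j
    rw [← hB i j]
    symm
    have hσi : Function.Injective (σ i) := by
      intro k k' h
      apply hinj
      have h1 : γ i • y k = γ i • y k' := by rw [hσ, hσ, h]
      exact smul_left_cancel _ h1
    refine Finset.card_bij (fun k _ => σ i k) ?_ (fun k _ k' _ h => hσi h) ?_
    · intro k hk
      rw [Finset.mem_filter] at hk ⊢
      refine ⟨Finset.mem_univ _, ?_, hk.2.2⟩
      rw [decide_eq_true_eq]
      exact ⟨γ i, k, hγ i, hk.2.1, hσ i k⟩
    · intro k' hk'
      rw [Finset.mem_filter, decide_eq_true_eq] at hk'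
      obtain ⟨-, ⟨g, k, h1, h2, h3⟩, h4⟩ := hk'
      obtain ⟨k'', hk''⟩ := hcl ((γ i)⁻¹ * g) k
      have h5 : ((γ i)⁻¹ * g) • y i₀ = y i₀ := by
        rw [mul_smul, h1, ← hγ i, inv_smul_smul]
      have h6 := hc₁ _ h5 k k'' h2 hk''
      have h7 : σ i k'' = k' := by
        apply hinj
        rw [← hσ, ← hk'', mul_smul, smul_inv_smul, h3]
      refine ⟨k'', ?_, h7⟩
      rw [Finset.mem_filter]
      refine ⟨Finset.mem_univ _, h6, ?_⟩
      rw [h7]
      exact h4

omit [Finite G] in
/-- A class whose size cannot be enlarged is invariant under the stabiliser: the orbits of the stabiliser of `y i₀` are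
unions of classes and their sizes divide the order `s` of the stabiliser. -/
theorem class_invariant (y : Fin M → Y) (hinj : Function.Injective y) (i₀ : Fin M)
    (hcl : ∀ g : G, ∀ i, ∃ j, g • y i = y j)
    (K : Subgroup G) (hK : ∀ g ∈ K, g • y i₀ = y i₀) (cls : Fin M → Fin n) (r : Fin n → Fin M)
    (htr : ∀ i, ∃ g ∈ K, g • y (r (cls i)) = y i) (c₁ : Fin n) (s : ℕ)
    (hs : Nat.card (MulAction.stabilizer G (y i₀)) = s) (kk : Fin n → ℕ)
    (hk : ∀ j, (Finset.univ.filter fun i => cls i = j).card = kk j)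
    (hdiv : ∀ J : Finset (Fin n), c₁ ∈ J → (∑ j ∈ J, kk j) ∣ s → J = {c₁}) :
    ∀ g : G, g • y i₀ = y i₀ → ∀ k k', cls k = c₁ → g • y k = y k' → cls k' = c₁ := by
  classical
  intro g hg k k' hk1 hgk
  set S := MulAction.stabilizer G (y i₀) with hS
  let O : Finset (Fin M) := Finset.univ.filter fun i => ∃ h ∈ S, h • y k = y i
  let J : Finset (Fin n) := O.image cls
  have hmem : ∀ i, i ∈ O ↔ ∃ h ∈ S, h • y k = y i := fun i => by
    show i ∈ Finset.univ.filter _ ↔ _
    rw [Finset.mem_filter]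
    exact ⟨fun h => h.2, fun h => ⟨Finset.mem_univ _, h⟩⟩
  -- the orbit is a union of classes
  have hunion : ∀ i j, i ∈ O → cls i = cls j → j ∈ O := by
    intro i j hi hij
    rw [hmem] at hi ⊢
    obtain ⟨h, hh, h1⟩ := hi
    obtain ⟨g1, hg1, h2⟩ := htr i
    obtain ⟨g2, hg2, h3⟩ := htr j
    refine ⟨g2 * g1⁻¹ * h, ?_, ?_⟩
    · exact S.mul_mem (S.mul_mem (MulAction.mem_stabilizer_iff.2 (hK g2 hg2))
        (S.inv_mem (MulAction.mem_stabilizer_iff.2 (hK g1 hg1)))) hh
    · rw [mul_smul, h1, mul_smul, ← h2, inv_smul_smul, hij, h3]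
  have hO : O = J.biUnion fun j => Finset.univ.filter fun i => cls i = j := by
    ext i
    rw [Finset.mem_biUnion]
    constructor
    · intro hi
      exact ⟨cls i, Finset.mem_image_of_mem _ hi, by simp⟩
    · rintro ⟨j, hj, hi⟩
      obtain ⟨i', hi', rfl⟩ := Finset.mem_image.1 hj
      exact hunion i' i hi' (Finset.mem_filter.1 hi).2.symm
  have hcard : O.card = ∑ j ∈ J, kk j := by
    rw [hO, Finset.card_biUnion]
    · exact Finset.sum_congr rfl fun j _ => hk j
    · intro j _ j' _ hjj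
      show Disjoint (Finset.univ.filter fun i => cls i = j) (Finset.univ.filter fun i => cls i = j')
      rw [Finset.disjoint_left]
      intro i h1 h2
      exact hjj ((Finset.mem_filter.1 h1).2.symm.trans (Finset.mem_filter.1 h2).2)
  have horb : O.card ∣ s := by
    have h1 : O.card = (MulAction.orbit S (y k)).ncard := by
      have e : MulAction.orbit S (y k) = ((O.image y : Finset Y) : Set Y) := by
        ext z
        rw [Finset.mem_coe, Finset.mem_image]
        constructor
        · rintro ⟨h, rfl⟩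
          obtain ⟨i, hi⟩ := hcl (h : G) k
          exact ⟨i, (hmem i).2 ⟨h, h.2, hi⟩, hi.symm⟩
        · rintro ⟨i, hi, rfl⟩
          obtain ⟨h, hh, h2⟩ := (hmem i).1 hi
          exact ⟨⟨h, hh⟩, h2⟩
      rw [e, Set.ncard_coe_finset, Finset.card_image_of_injective _ hinj]
    rw [h1, ← hs, ← Nat.card_coe_set_eq, Nat.card_congr (MulAction.orbitEquivQuotientStabilizer S (y k)),
      ← Subgroup.index_eq_card]
    exact Subgroup.index_dvd_card _
  have hc : c₁ ∈ J := Finset.mem_image.2 ⟨k, (hmem k).2 ⟨1, S.one_mem, one_smul _ _⟩, hk1⟩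
  have hJ := hdiv J hc (hcard ▸ horb)
  have h2 : cls k' ∈ J := Finset.mem_image_of_mem _ ((hmem k').2 ⟨g, MulAction.mem_stabilizer_iff.2 hg, hgk⟩)
  rw [hJ, Finset.mem_singleton] at h2
  exact h2

end Cfsg.Agent.H678.DG.Orbital
end

-- part: H678/DG/Pts
section
/-!
# Degrees from a permutation representation given by words (helper678)

`G` acts on `Fin M` through `φ`; `s x` are some elements of `G` whose images are known (`A x i`). The classes are intervals
with roots `rt bs j`; `KW` is a list of words fixing `0` and preserving the classes, transitive on each class (forest `pr`);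
`γ j` is a word with `γ j • 0 = rt bs j`; the relation is the orbital of the class `c₁`, whose size cannot be enlarged
to a divisor of the order of the stabiliser. `deg_of_pts` : the degree of the constituent.
-/

set_option autoImplicit false

namespace Cfsg.Agent.H678.DG.Pts

open Cfsg Equiv Cfsg.Agent.SporadicA.PermTab Cfsg.Agent.H678.DG.Blk

universe u

/-- action of a word, the last letter acts first -/
def av {S : Type} (A : S → ℕ → ℕ) (w : List S) (i : ℕ) : ℕ := List.rec i (fun x _ ih => A x ih) w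

theorem av_nil {S : Type} (A : S → ℕ → ℕ) (i : ℕ) : av A [] i = i := rfl

theorem av_cons {S : Type} (A : S → ℕ → ℕ) (x : S) (w : List S) (i : ℕ) : av A (x :: w) i = A x (av A w i) := rfl

/-- A word fixing `0` and preserving the labels. -/
def chkW {S : Type} (A : S → ℕ → ℕ) (M : ℕ) (bs : List ℕ) (w : List S) : Bool :=
  band (Nat.beq (av A w 0) 0) (allB (fun x => Nat.beq (lab bs (av A w x)) (lab bs x)) M)

/-- The forest of parents. -/
def chkF {S : Type} (A : S → ℕ → ℕ) (M : ℕ) (bs : List ℕ) (KW : List (List S)) (pr : ℕ → ℕ) : Bool :=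
  allB (fun x => bor (Nat.beq (rt bs (lab bs x)) x) (forceB (pr x) fun y => band (Nat.blt y x)
    (band (Nat.beq (lab bs y) (lab bs x)) (anyB (fun w => Nat.beq (av A w y) x) KW)))) M

/-- Packed counting: the number of `k < n` with `p k` and `f k = j` is the digit `j` in base `2 ^ 16`. -/
def pk (p : ℕ → Bool) (f : ℕ → ℕ) (T : ℕ) (n : ℕ) : ℕ → Bool :=
  Nat.rec (fun acc => Nat.beq acc T)
    (fun k ih acc => cond (p k) (forceB (Nat.add acc (Nat.pow 65536 (f k))) ih) (ih acc)) n

theorem pk_succ (p : ℕ → Bool) (f : ℕ → ℕ) (T n acc : ℕ) : pk p f T (n + 1) acc =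
    cond (p n) (forceB (Nat.add acc (Nat.pow 65536 (f n))) (pk p f T n)) (pk p f T n acc) := rfl

theorem pk_spec (p : ℕ → Bool) (f : ℕ → ℕ) (T : ℕ) : ∀ n acc : ℕ, pk p f T n acc = true →
    acc + ∑ k ∈ (Finset.range n).filter (fun k => p k = true), 65536 ^ f k = T := by
  intro n
  induction n with
  | zero =>
    intro acc h
    have h1 : acc = T := Nat.eq_of_beq_eq_true h
    simp [h1]
  | succ n ih =>
    intro acc h
    rw [pk_succ] at h
    rw [Finset.range_add_one, Finset.filter_insert]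
    cases hp : p n with
    | true =>
      rw [hp, cond_true, forceB_eq] at h
      have h1 := ih _ h
      rw [if_pos rfl, Finset.sum_insert (by simp), ← h1]
      have h2 : Nat.add acc (Nat.pow 65536 (f n)) = acc + 65536 ^ f n := rfl
      rw [h2]
      ring
    | false =>
      rw [hp, cond_false] at h
      rw [if_neg (by simp)]
      exact ih _ h

/-- uniqueness of the digits -/
theorem digits_unique {W : ℕ} : ∀ {n : ℕ} {b c : ℕ → ℕ}, (∀ j < n, b j < W) → (∀ j < n, c j < W) →
    ∑ j ∈ Finset.range n, b j * W ^ j = ∑ j ∈ Finset.range n, c j * W ^ j → ∀ j < n, b j = c j := by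
  intro n
  induction n with
  | zero => intro b c _ _ _ j hj; omega
  | succ n ih =>
    intro b c hb hc h
    rw [Finset.sum_range_succ', Finset.sum_range_succ'] at h
    have hW : 0 < W := lt_of_le_of_lt (Nat.zero_le _) (hb 0 (Nat.succ_pos n))
    have e : ∀ b : ℕ → ℕ, ∑ j ∈ Finset.range n, b (j + 1) * W ^ (j + 1) =
        W * ∑ j ∈ Finset.range n, b (j + 1) * W ^ j := by
      intro b
      rw [Finset.mul_sum]
      refine Finset.sum_congr rfl fun j _ => ?_
      rw [pow_succ]
      ring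
    rw [e, e, pow_zero, mul_one, mul_one] at h
    have h0 : b 0 = c 0 := by
      have h1 := congrArg (· % W) h
      simpa [Nat.mul_add_mod, Nat.mod_eq_of_lt (hb 0 (Nat.succ_pos n)), Nat.mod_eq_of_lt (hc 0 (Nat.succ_pos n))]
        using h1
    rw [h0] at h
    have h2 := Nat.eq_of_mul_eq_mul_left hW (Nat.add_right_cancel h)
    have h3 := ih (b := fun j => b (j + 1)) (c := fun j => c (j + 1)) (fun j hj => hb _ (Nat.succ_lt_succ hj))
      (fun j hj => hc _ (Nat.succ_lt_succ hj)) h2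
    intro j hj
    cases j with
    | zero => exact h0
    | succ j => exact h3 j (Nat.lt_of_succ_lt_succ hj)

/-- the packed row -/
def row (b : ℕ → ℕ) (n : ℕ) : ℕ := Nat.rec 0 (fun k ih => Nat.add ih (Nat.mul (b k) (Nat.pow 65536 k))) n

theorem row_eq (b : ℕ → ℕ) (n : ℕ) : row b n = ∑ j ∈ Finset.range n, b j * 65536 ^ j := by
  induction n with
  | zero => rfl
  | succ n ih =>
    have h : row b (n + 1) = row b n + b n * 65536 ^ n := rfl
    rw [h, ih, Finset.sum_range_succ]

theorem card_of_pk {p : ℕ → Bool} {f b : ℕ → ℕ} {M n : ℕ} (hM : M < 65536) (hb : ∀ j < n, b j < 65536)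
    (hf : ∀ k < M, p k = true → f k < n) (h : pk p f (row b n) M 0 = true) (j : ℕ) (hj : j < n) :
    ((Finset.range M).filter (fun k => p k = true ∧ f k = j)).card = b j := by
  classical
  have h1 := pk_spec p f _ M 0 h
  rw [zero_add, row_eq] at h1
  have h2 : ∑ k ∈ (Finset.range M).filter (fun k => p k = true), 65536 ^ f k =
      ∑ j ∈ Finset.range n, ((Finset.range M).filter (fun k => p k = true ∧ f k = j)).card * 65536 ^ j := by
    have h3 : ∀ k ∈ (Finset.range M).filter (fun k => p k = true), f k ∈ Finset.range n := by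
      intro k hk
      rw [Finset.mem_filter, Finset.mem_range] at hk
      exact Finset.mem_range.2 (hf k hk.1 hk.2)
    rw [← Finset.sum_fiberwise_of_maps_to h3]
    refine Finset.sum_congr rfl fun j _ => ?_
    rw [Finset.filter_filter, Finset.sum_congr rfl (g := fun _ => 65536 ^ j), Finset.sum_const, smul_eq_mul]
    intro k hk
    rw [(Finset.mem_filter.1 hk).2.2]
  rw [h2] at h1
  refine digits_unique (fun j _ => ?_) hb h1 j hj
  refine lt_of_le_of_lt (Finset.card_filter_le _ _) ?_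
  rwa [Finset.card_range]

/-- The collapsed matrix. -/
def chkB {S : Type} (A : S → ℕ → ℕ) (M n c₁ : ℕ) (bs : List ℕ) (γ : ℕ → List S) (B : ℕ → ℕ → ℕ) : Bool :=
  allB (fun i => band (Nat.beq (av A (γ i) 0) (rt bs i))
    (pk (fun k => Nat.beq (lab bs k) c₁) (fun k => lab bs (av A (γ i) k)) (row (B i) n) M 0)) n

variable {G : Type u} [Group G] [Finite G] {M n : ℕ}

/-- **Degrees from a permutation representation.** -/
theorem deg_of_pts (φ : G →* Perm (Fin M)) {S : Type} (s : S → G) (A : S → ℕ → ℕ)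
    (hA : ∀ x (i : Fin M), ((φ (s x) i : Fin M) : ℕ) = A x i) {KW : List (List S)} {bs : List ℕ} {pr kk : ℕ → ℕ}
    {γ : ℕ → List S} {c₁ : ℕ} {B : ℕ → ℕ → ℕ} {st : ℕ} (hcard : Nat.card G = M * st)
    (hM : 0 < M) (hM' : M < 65536) (hlab0 : lab bs 0 = 0) (hn : 0 < n) (hc₁ : c₁ < n)
    (hBB : ∀ i < n, ∀ j < n, B i j < 65536)
    (h1 : allL (chkW A M bs) KW = true) (h2 : chkF A M bs KW pr = true) (h3 : chkK M n bs kk = true)
    (h4 : chkB A M n c₁ bs γ B = true)
    (hdiv : ∀ J : Finset (Fin n), ⟨c₁, hc₁⟩ ∈ J → (∑ j ∈ J, kk j) ∣ st → J = {⟨c₁, hc₁⟩})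
    (a : Fin n → ℚ) (t : ℚ) (L : Fin n → Fin n → ℚ) (d : ℕ)
    (ha : a ⟨0, hn⟩ = 1) (hBa : ∀ i : Fin n, ∑ j : Fin n, (B i j : ℚ) * a j = t * a i)
    (hL : ∀ i j : Fin n, ∑ l : Fin n, L i l * ((B l j : ℚ) - if l = j then t else 0) =
      (if i = j then 1 else 0) - if j = ⟨0, hn⟩ then a i else 0)
    (hd : (d : ℚ) * ∑ j : Fin n, (kk j : ℚ) * (a j * a j) = M) :
    ∃ χ : IrrCharacter G, charDegree (χ : G → ℂ) = d := by
  classical
  let act : MulAction G (Fin M) := MulAction.compHom (Fin M) φ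
  have hsm : ∀ (g : G) (i : Fin M), g • i = φ g i := fun _ _ => rfl
  -- words
  have hw : ∀ (w : List S) (i : Fin M), (((w.map s).prod • i : Fin M) : ℕ) = av A w i := by
    intro w
    induction w with
    | nil => intro i; rw [List.map_nil, List.prod_nil, one_smul, av_nil]
    | cons x w ih =>
      intro i
      rw [List.map_cons, List.prod_cons, mul_smul, hsm (s x), hA, ih, av_cons]
  unfold chkK at h3
  rw [band_eq_true, band_eq_true, allB_iff, allB_iff, allB_iff] at h3
  obtain ⟨h5a, h5b, h5c⟩ := h3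
  have hlt : ∀ x < M, lab bs x < n := fun x hx => Nat.blt_eq ▸ h5a x hx
  have hrt : ∀ j < n, rt bs j < M := fun j hj => Nat.blt_eq ▸ h5b j hj
  let z : Fin M := ⟨0, hM⟩
  let K : Subgroup G :=
    { carrier := {g | g • z = z ∧ ∀ x : Fin M, lab bs (g • x : Fin M) = lab bs x}
      one_mem' := ⟨one_smul _ _, fun x => by rw [one_smul]⟩
      mul_mem' := by
        rintro a b ⟨h1, h2⟩ ⟨h3, h4⟩
        exact ⟨by rw [mul_smul, h3, h1], fun x => by rw [mul_smul, h2, h4]⟩
      inv_mem' := by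
        rintro a ⟨h1, h2⟩
        refine ⟨by rw [inv_smul_eq_iff, h1], fun x => ?_⟩
        have h3 := h2 (a⁻¹ • x)
        rw [smul_inv_smul] at h3
        exact h3.symm }
  have hK : ∀ g, g ∈ K ↔ g • z = z ∧ ∀ x : Fin M, lab bs (g • x : Fin M) = lab bs x := fun _ => Iff.rfl
  have hKW : ∀ w ∈ KW, (w.map s).prod ∈ K := by
    intro w hwK
    have h7 := (allL_iff _ _).1 h1 w hwK
    unfold chkW at h7
    rw [band_eq_true] at h7
    rw [hK]
    refine ⟨Fin.ext ?_, fun x => ?_⟩
    · rw [hw]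
      exact Nat.eq_of_beq_eq_true h7.1
    · rw [hw]
      exact Nat.eq_of_beq_eq_true ((allB_iff _ _).1 h7.2 x x.2)
  unfold chkF at h2
  rw [allB_iff] at h2
  have hreach : ∀ x, ∀ hx : x < M, ∃ g ∈ K, g • (⟨rt bs (lab bs x), hrt _ (hlt x hx)⟩ : Fin M) = ⟨x, hx⟩ := by
    intro x
    induction x using Nat.strong_induction_on with
    | _ x ih =>
      intro hx
      have h7 := h2 x hx
      rw [bor_iff, forceB_eq, band_eq_true, band_eq_true, anyB_iff] at h7
      rcases h7 with h7 | ⟨h7, h8, w, hwK, h9⟩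
      · refine ⟨1, K.one_mem, ?_⟩
        rw [one_smul]
        exact Fin.ext (Nat.eq_of_beq_eq_true h7)
      · have h10 : pr x < x := Nat.blt_eq ▸ h7
        obtain ⟨g, hg, hgx⟩ := ih _ h10 (h10.trans hx)
        refine ⟨(w.map s).prod * g, K.mul_mem (hKW w hwK) hg, ?_⟩
        have h11 : (⟨rt bs (lab bs x), hrt _ (hlt x hx)⟩ : Fin M) =
            ⟨rt bs (lab bs (pr x)), hrt _ (hlt _ (h10.trans hx))⟩ :=
          Fin.ext (congrArg (rt bs) (Nat.eq_of_beq_eq_true h8).symm)
        rw [h11, mul_smul, hgx]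
        refine Fin.ext ?_
        rw [hw]
        exact Nat.eq_of_beq_eq_true h9
  unfold chkB at h4
  rw [allB_iff] at h4
  have hγ : ∀ i (hi : i < n), ((γ i).map s).prod • z = ⟨rt bs i, hrt i hi⟩ := by
    intro i hi
    have h7 := h4 i hi
    rw [band_eq_true] at h7
    refine Fin.ext ?_
    rw [hw]
    exact Nat.eq_of_beq_eq_true h7.1
  have htrG : ∀ i : Fin M, ∃ g : G, g • z = i := by
    intro i
    obtain ⟨g, -, hg⟩ := hreach i i.2
    exact ⟨g * ((γ (lab bs i)).map s).prod, by rw [mul_smul, hγ _ (hlt i i.2), hg]⟩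
  have hst : Nat.card (MulAction.stabilizer G z) = st := by
    have h7 : Nat.card (MulAction.orbit G z) = M := by
      have h8 : MulAction.orbit G z = Set.univ := by
        ext i
        exact ⟨fun _ => trivial, fun _ => htrG i⟩
      rw [h8, Nat.card_coe_set_eq, Set.ncard_univ, Nat.card_eq_fintype_card, Fintype.card_fin]
    have h9 : Nat.card (MulAction.orbit G z) * Nat.card (MulAction.stabilizer G z) = Nat.card G := by
      rw [Nat.card_congr (MulAction.orbitEquivQuotientStabilizer G z), ← Subgroup.index_eq_card, mul_comm,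
        Subgroup.card_mul_index]
    rw [h7, hcard] at h9
    exact Nat.eq_of_mul_eq_mul_left hM h9
  have hkk : ∀ j : Fin n, (Finset.univ.filter fun i : Fin M => (⟨lab bs i, hlt i i.2⟩ : Fin n) = j).card = kk j := by
    intro j
    have h7 := (cntB_iff _ _ _).1 (h5c j j.2)
    rw [← h7, ← card_fin]
    congr 1
    ext i
    simp only [Finset.mem_filter, Finset.mem_univ, true_and, Fin.ext_iff]
    exact ⟨fun h => by rw [h]; exact Nat.beq_refl _, Nat.eq_of_beq_eq_true⟩
  have htr : ∀ i : Fin M, ∃ g ∈ K, g • (⟨rt bs (lab bs i), hrt _ (hlt i i.2)⟩ : Fin M) = i := fun i => hreach i i.2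
  refine Orbital.deg_of_orbital (G := G) (Y := Fin M) (M := M) (n := n) (fun x => x) (fun _ _ h => h) z
    (fun g i => ⟨g • i, rfl⟩) htrG K (fun g hg => ((hK g).1 hg).1) (fun x => ⟨lab bs x, hlt x x.2⟩)
    (fun j => ⟨rt bs j, hrt j j.2⟩) ?_ htr ⟨c₁, hc₁⟩ ?_ (fun i => ((γ i).map s).prod) (fun i => hγ i i.2)
    (fun i k => ((γ i).map s).prod • k) (fun i k => rfl) (fun i j => B i j) ?_ (fun j => kk j) hkk ⟨0, hn⟩ ?_ a t L d
    ha hBa hL hd
  · intro g hg i j hij
    rw [← hij]
    exact Fin.ext (((hK g).1 hg).2 i)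
  · exact Orbital.class_invariant (G := G) (Y := Fin M) (fun x => x) (fun _ _ h => h) z (fun g i => ⟨g • i, rfl⟩) K
      (fun g hg => ((hK g).1 hg).1) (fun x => ⟨lab bs x, hlt x x.2⟩) (fun j => ⟨rt bs j, hrt j j.2⟩) htr ⟨c₁, hc₁⟩ st hst
      (fun j => kk j) hkk hdiv
  · intro i j
    have h7 := h4 i i.2
    rw [band_eq_true] at h7
    rw [← card_of_pk hM' (fun j hj => hBB i i.2 j hj) (fun k hk _ => ?_) h7.2 j j.2]
    · refine Finset.card_bij (fun k _ => (k : ℕ)) ?_ (fun k _ k' _ h => Fin.ext h) ?_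
      · intro k hk
        rw [Finset.mem_filter] at hk ⊢
        refine ⟨Finset.mem_range.2 k.2, ?_, ?_⟩
        · have h8 : lab bs k = c₁ := congrArg Fin.val hk.2.1
          rw [h8]
          exact Nat.beq_refl _
        · have h8 := congrArg Fin.val hk.2.2
          have h9 : lab bs (((((γ i).map s).prod • k : Fin M)) : ℕ) = j := h8
          rwa [hw] at h9
      · intro k hk
        rw [Finset.mem_filter, Finset.mem_range] at hk
        refine ⟨⟨k, hk.1⟩, ?_, rfl⟩
        rw [Finset.mem_filter]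
        refine ⟨Finset.mem_univ _, Fin.ext (Nat.eq_of_beq_eq_true hk.2.1), Fin.ext ?_⟩
        show lab bs (((((γ i).map s).prod • (⟨k, hk.1⟩ : Fin M) : Fin M)) : ℕ) = j
        rw [hw]
        exact hk.2.2
    · have h8 := hw (γ i) ⟨k, hk⟩
      rw [← h8]
      exact hlt _ (Fin.is_lt _)
  · exact Fin.ext hlab0

end Cfsg.Agent.H678.DG.Pts
end
end

-- part: H678/DG/PairRep
section
set_option linter.all false
open scoped Cfsg.Agent.FastGrp

/-!
# Degrees from the action on the pairs of a graph (helper678)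

`G` is a group of permutations of `Fin N` preserving the relation `R`; `ea k`, `eb k` (`k < M`) are the end points of the
`k`-th pair of `R` and `ix i j` is the number of the pair `{i, j}`. `deg_of_pairs` : the degree of a constituent of the
permutation character of `G` on the pairs.
-/

set_option autoImplicit false

namespace Cfsg.Agent.H678.DG.PairRep

open Cfsg Equiv Cfsg.Agent.SporadicA.PermTab Cfsg.Agent.H678.DG.Blk Cfsg.Agent.H678.DG.Pts

/-- The pairs are in `R` and `ix` is their number. -/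
def chkY (N M : ℕ) (R : ℕ → ℕ → Bool) (ea eb : ℕ → ℕ) (ix : ℕ → ℕ → ℕ) : Bool :=
  allB (fun k => forceB (ea k) fun a => forceB (eb k) fun b => band (Nat.blt a N) (band (Nat.blt b N) (band (R a b)
    (band (Nat.beq (ix a b) k) (Nat.beq (ix b a) k))))) M

/-- Every pair in `R` has a number. -/
def chkIx (N M : ℕ) (R : ℕ → ℕ → Bool) (ea eb : ℕ → ℕ) (ix : ℕ → ℕ → ℕ) : Bool :=
  allB (fun i => allB (fun j => cond (R i j) (forceB (ix i j) fun k => band (Nat.blt k M)
    (bor (band (Nat.beq (ea k) i) (Nat.beq (eb k) j)) (band (Nat.beq (ea k) j) (Nat.beq (eb k) i)))) true) N) N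

/-- The data of the pairs. -/
structure Data (N M : ℕ) (R : ℕ → ℕ → Bool) (ea eb : ℕ → ℕ) (ix : ℕ → ℕ → ℕ) : Prop where
  lta : ∀ k < M, ea k < N
  ltb : ∀ k < M, eb k < N
  rel : ∀ k < M, R (ea k) (eb k) = true
  ixab : ∀ k < M, ix (ea k) (eb k) = k
  ixba : ∀ k < M, ix (eb k) (ea k) = k
  lt : ∀ i < N, ∀ j < N, R i j = true → ix i j < M
  eq : ∀ i < N, ∀ j < N, R i j = true → (ea (ix i j) = i ∧ eb (ix i j) = j) ∨ (ea (ix i j) = j ∧ eb (ix i j) = i)

variable {N M : ℕ} {R : ℕ → ℕ → Bool} {ea eb : ℕ → ℕ} {ix : ℕ → ℕ → ℕ}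

theorem Data.mk' (h1 : chkY N M R ea eb ix = true) (h2 : chkIx N M R ea eb ix = true) : Data N M R ea eb ix := by
  unfold chkY at h1
  unfold chkIx at h2
  rw [allB_iff] at h1 h2
  have h3 : ∀ k < M, ea k < N ∧ eb k < N ∧ R (ea k) (eb k) = true ∧ ix (ea k) (eb k) = k ∧ ix (eb k) (ea k) = k := by
    intro k hk
    have h := h1 k hk
    rw [forceB_eq, forceB_eq, band_eq_true, band_eq_true, band_eq_true, band_eq_true] at h
    exact ⟨Nat.blt_eq ▸ h.1, Nat.blt_eq ▸ h.2.1, h.2.2.1, Nat.eq_of_beq_eq_true h.2.2.2.1,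
      Nat.eq_of_beq_eq_true h.2.2.2.2⟩
  have h4 : ∀ i < N, ∀ j < N, R i j = true → ix i j < M ∧
      ((ea (ix i j) = i ∧ eb (ix i j) = j) ∨ (ea (ix i j) = j ∧ eb (ix i j) = i)) := by
    intro i hi j hj hR
    have h := (allB_iff _ _).1 (h2 i hi) j hj
    rw [hR, cond_true, forceB_eq, band_eq_true, bor_iff, band_eq_true, band_eq_true] at h
    refine ⟨Nat.blt_eq ▸ h.1, ?_⟩
    rcases h.2 with h | h
    · exact Or.inl ⟨Nat.eq_of_beq_eq_true h.1, Nat.eq_of_beq_eq_true h.2⟩
    · exact Or.inr ⟨Nat.eq_of_beq_eq_true h.1, Nat.eq_of_beq_eq_true h.2⟩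
  exact ⟨fun k hk => (h3 k hk).1, fun k hk => (h3 k hk).2.1, fun k hk => (h3 k hk).2.2.1,
    fun k hk => (h3 k hk).2.2.2.1, fun k hk => (h3 k hk).2.2.2.2, fun i hi j hj h => (h4 i hi j hj h).1,
    fun i hi j hj h => (h4 i hi j hj h).2⟩

theorem Data.symm (D : Data N M R ea eb ix) {i j : ℕ} (hi : i < N) (hj : j < N) (h : R i j = true) :
    ix j i = ix i j := by
  have h1 := D.lt i hi j hj h
  rcases D.eq i hi j hj h with ⟨h2, h3⟩ | ⟨h2, h3⟩
  · have h4 := D.ixba _ h1
    rwa [h2, h3] at h4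
  · have h4 := D.ixab _ h1
    rwa [h2, h3] at h4

variable {G : Subgroup (Perm (Fin N))}

/-- the image of the number of a pair -/
def img (ea eb : ℕ → ℕ) (ix : ℕ → ℕ → ℕ) (D : Data N M R ea eb ix) (g : Perm (Fin N)) (k : Fin M) : ℕ :=
  ix ((g ⟨ea k, D.lta k k.2⟩ : Fin N) : ℕ) ((g ⟨eb k, D.ltb k k.2⟩ : Fin N) : ℕ)

theorem img_lt (D : Data N M R ea eb ix) {g : Perm (Fin N)} (hg : ∀ i j : Fin N, R (g i) (g j) = R i j) (k : Fin M) :
    img ea eb ix D g k < M := by
  refine D.lt _ (Fin.is_lt _) _ (Fin.is_lt _) ?_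
  rw [hg]
  exact D.rel k k.2

/-- the image of a pair -/
def act (D : Data N M R ea eb ix) (hR : ∀ g ∈ G, ∀ i j : Fin N, R (g i) (g j) = R i j) (g : G) (k : Fin M) : Fin M :=
  ⟨img ea eb ix D g k, img_lt D (hR g g.2) k⟩

theorem act_mul (D : Data N M R ea eb ix) (hR : ∀ g ∈ G, ∀ i j : Fin N, R (g i) (g j) = R i j) (g h : G) (k : Fin M) :
    act D hR (g * h) k = act D hR g (act D hR h k) := by
  apply Fin.ext
  show ix ((((g * h : G) : Perm (Fin N)) ⟨ea k, D.lta k k.2⟩ : Fin N) : ℕ)
    ((((g * h : G) : Perm (Fin N)) ⟨eb k, D.ltb k k.2⟩ : Fin N) : ℕ) = ix _ _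
  have hr : R (((h : Perm (Fin N)) ⟨ea k, D.lta k k.2⟩ : Fin N) : ℕ)
      (((h : Perm (Fin N)) ⟨eb k, D.ltb k k.2⟩ : Fin N) : ℕ) = true := by
    rw [hR h h.2]
    exact D.rel k k.2
  have hr' : R ((((g * h : G) : Perm (Fin N)) ⟨ea k, D.lta k k.2⟩ : Fin N) : ℕ)
      ((((g * h : G) : Perm (Fin N)) ⟨eb k, D.ltb k k.2⟩ : Fin N) : ℕ) = true := by
    rw [hR (g * h : G) (g * h : G).2]
    exact D.rel k k.2
  set k' : Fin M := act D hR h k with hk'
  have hk'v : (k' : ℕ) = ix (((h : Perm (Fin N)) ⟨ea k, D.lta k k.2⟩ : Fin N) : ℕ)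
      (((h : Perm (Fin N)) ⟨eb k, D.ltb k k.2⟩ : Fin N) : ℕ) := rfl
  rcases D.eq _ (Fin.is_lt _) _ (Fin.is_lt _) hr with ⟨h2, h3⟩ | ⟨h2, h3⟩
  · rw [← hk'v] at h2 h3
    have e1 : (⟨ea k', D.lta k' k'.2⟩ : Fin N) = (h : Perm (Fin N)) ⟨ea k, D.lta k k.2⟩ := Fin.ext h2
    have e2 : (⟨eb k', D.ltb k' k'.2⟩ : Fin N) = (h : Perm (Fin N)) ⟨eb k, D.ltb k k.2⟩ := Fin.ext h3
    rw [e1, e2]
    rfl
  · rw [← hk'v] at h2 h3
    have e1 : (⟨ea k', D.lta k' k'.2⟩ : Fin N) = (h : Perm (Fin N)) ⟨eb k, D.ltb k k.2⟩ := Fin.ext h2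
    have e2 : (⟨eb k', D.ltb k' k'.2⟩ : Fin N) = (h : Perm (Fin N)) ⟨ea k, D.lta k k.2⟩ := Fin.ext h3
    rw [e1, e2]
    exact (D.symm (Fin.is_lt _) (Fin.is_lt _) hr').symm

theorem act_one (D : Data N M R ea eb ix) (hR : ∀ g ∈ G, ∀ i j : Fin N, R (g i) (g j) = R i j) (k : Fin M) :
    act D hR 1 k = k := Fin.ext (D.ixab k k.2)

/-- The representation on the pairs. -/
def rep (D : Data N M R ea eb ix) (hR : ∀ g ∈ G, ∀ i j : Fin N, R (g i) (g j) = R i j) : G →* Perm (Fin M) :=
  letI : MulAction G (Fin M) :=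
    { smul := act D hR
      one_smul := act_one D hR
      mul_smul := act_mul D hR }
  MulAction.toPermHom G (Fin M)

theorem rep_apply (D : Data N M R ea eb ix) (hR : ∀ g ∈ G, ∀ i j : Fin N, R (g i) (g j) = R i j) (g : G) (k : Fin M) :
    rep D hR g k = act D hR g k := rfl

/-- the action of the table `P` -/
def ap (ea eb : ℕ → ℕ) (ix : ℕ → ℕ → ℕ) (P k : ℕ) : ℕ := ix (lk P (ea k)) (lk P (eb k))

/-- **Degrees from the action on the pairs.** -/
theorem deg_of_pairs {n : ℕ} (D : Data N M R ea eb ix) (hR : ∀ g ∈ G, ∀ i j : Fin N, R (g i) (g j) = R i j)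
    {m : ℕ} (T : Fin m → ℕ) (hT : ∀ x, InG G (T x)) {KW : List (List (Fin m))} {bs : List ℕ} {pr kk : ℕ → ℕ}
    {γ : ℕ → List (Fin m)} {c₁ : ℕ} {B : ℕ → ℕ → ℕ} {st : ℕ} (hcard : Nat.card G = M * st)
    (hM : 0 < M) (hM' : M < 65536) (hlab0 : lab bs 0 = 0) (hn : 0 < n) (hc₁ : c₁ < n)
    (hBB : ∀ i < n, ∀ j < n, B i j < 65536)
    (h1 : allL (Pts.chkW (fun x => ap ea eb ix (T x)) M bs) KW = true)
    (h2 : Pts.chkF (fun x => ap ea eb ix (T x)) M bs KW pr = true) (h3 : chkK M n bs kk = true)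
    (h4 : Pts.chkB (fun x => ap ea eb ix (T x)) M n c₁ bs γ B = true)
    (hdiv : ∀ J : Finset (Fin n), ⟨c₁, hc₁⟩ ∈ J → (∑ j ∈ J, kk j) ∣ st → J = {⟨c₁, hc₁⟩})
    (a : Fin n → ℚ) (t : ℚ) (L : Fin n → Fin n → ℚ) (d : ℕ)
    (ha : a ⟨0, hn⟩ = 1) (hBa : ∀ i : Fin n, ∑ j : Fin n, (B i j : ℚ) * a j = t * a i)
    (hL : ∀ i j : Fin n, ∑ l : Fin n, L i l * ((B l j : ℚ) - if l = j then t else 0) =
      (if i = j then 1 else 0) - if j = ⟨0, hn⟩ then a i else 0)
    (hd : (d : ℚ) * ∑ j : Fin n, (kk j : ℚ) * (a j * a j) = M) :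
    ∃ χ : IrrCharacter G, charDegree (χ : G → ℂ) = d := by
  choose s hs hsi using hT
  refine deg_of_pts (rep D hR) (fun x => (⟨s x, hs x⟩ : G)) (fun x => ap ea eb ix (T x)) ?_ hcard hM hM' hlab0 hn hc₁ hBB h1
    h2 h3 h4 hdiv a t L d ha hBa hL hd
  intro x k
  rw [rep_apply]
  show ix (((s x) ⟨ea k, D.lta k k.2⟩ : Fin N) : ℕ) (((s x) ⟨eb k, D.ltb k k.2⟩ : Fin N) : ℕ) = _
  rw [hsi, hsi]
  rfl

/-! ### One pass over the pairs -/

/-- call by value; the continuation gets a literal -/
def fqz (a : ℕ) (k : ℕ → Bool) : Bool := Nat.rec true (fun m _ => k m) (Nat.succ a)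

theorem fqz_eq (a : ℕ) (k : ℕ → Bool) : fqz a k = k a := rfl

theorem lab_mono (bs : List ℕ) {x y : ℕ} (h : x ≤ y) : lab bs x ≤ lab bs y := by
  induction bs with
  | nil => exact Nat.le_refl _
  | cons b bs ih =>
    show cond (Nat.ble (Nat.succ x) b) 0 (Nat.succ (lab bs x)) ≤ cond (Nat.ble (Nat.succ y) b) 0 (Nat.succ (lab bs y))
    cases h1 : Nat.ble (Nat.succ x) b with
    | true => exact Nat.zero_le _
    | false =>
      cases h2 : Nat.ble (Nat.succ y) b with
      | true => exact absurd (Nat.ble_eq_true_of_le ((Nat.succ_le_succ h).trans (Nat.le_of_ble_eq_true h2))) (by rw [h1]; exact Bool.false_ne_true)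
      | false => exact Nat.succ_le_succ ih

/-- `Data` from the count of the pairs -/
theorem Data.of_count {d : ℕ} (h : ∀ k < M, ea k < N ∧ eb k < N ∧ ea k ≠ eb k ∧ R (ea k) (eb k) = true ∧
    R (eb k) (ea k) = true ∧ ix (ea k) (eb k) = k ∧ ix (eb k) (ea k) = k)
    (hc : ∀ i < N, ((Finset.range N).filter fun j => R i j = true).card = d) (hd : N * d = M + M) :
    Data N M R ea eb ix := by
  have i1 : Set.InjOn (fun k => (ea k, eb k)) (Finset.range M) := fun k hk l hl e => by
    rw [← (h k (Finset.mem_range.1 hk)).2.2.2.2.2.1, ← (h l (Finset.mem_range.1 hl)).2.2.2.2.2.1,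
      (Prod.mk.inj e).1, (Prod.mk.inj e).2]
  have i2 : Set.InjOn (fun k => (eb k, ea k)) (Finset.range M) := fun k hk l hl e =>
    i1 hk hl (Prod.ext (Prod.mk.inj e).2 (Prod.mk.inj e).1)
  have h1 : (Finset.range M).image (fun k => (ea k, eb k)) ∪ (Finset.range M).image (fun k => (eb k, ea k)) =
      (Finset.range N ×ˢ Finset.range N).filter fun p => R p.1 p.2 = true := by
    refine Finset.eq_of_subset_of_card_le (fun p hp => ?_) (le_of_eq ?_)
    · rw [Finset.mem_union, Finset.mem_image, Finset.mem_image] at hp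
      rw [Finset.mem_filter, Finset.mem_product, Finset.mem_range, Finset.mem_range]
      rcases hp with ⟨k, hk, rfl⟩ | ⟨k, hk, rfl⟩
      · have h2 := h k (Finset.mem_range.1 hk)
        exact ⟨⟨h2.1, h2.2.1⟩, h2.2.2.2.1⟩
      · have h2 := h k (Finset.mem_range.1 hk)
        exact ⟨⟨h2.2.1, h2.1⟩, h2.2.2.2.2.1⟩
    · rw [Finset.card_union_of_disjoint, Finset.card_image_of_injOn i1, Finset.card_image_of_injOn i2, Finset.card_range,
        ← hd, Finset.card_filter, Finset.sum_product, Finset.sum_congr rfl (g := fun _ => d) fun i hi => by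
          rw [← hc i (Finset.mem_range.1 hi), Finset.card_filter], Finset.sum_const, Finset.card_range, smul_eq_mul]
      refine Finset.disjoint_left.2 fun p hp hq => ?_
      obtain ⟨k, hk, rfl⟩ := Finset.mem_image.1 hp
      obtain ⟨l, hl, e⟩ := Finset.mem_image.1 hq
      have h2 := h k (Finset.mem_range.1 hk)
      have h3 := (h l (Finset.mem_range.1 hl)).2.2.2.2.2.2
      rw [(Prod.mk.inj e).1, (Prod.mk.inj e).2, h2.2.2.2.2.2.1] at h3
      exact h2.2.2.1 (h3 ▸ (Prod.mk.inj e).2)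
  have h4 : ∀ i < N, ∀ j < N, R i j = true → ∃ k < M, ix i j = k ∧ ((ea k = i ∧ eb k = j) ∨ (ea k = j ∧ eb k = i)) := by
    intro i hi j hj hR
    have h5 : (i, j) ∈ (Finset.range N ×ˢ Finset.range N).filter fun p => R p.1 p.2 = true :=
      Finset.mem_filter.2 ⟨Finset.mem_product.2 ⟨Finset.mem_range.2 hi, Finset.mem_range.2 hj⟩, hR⟩
    rw [← h1, Finset.mem_union, Finset.mem_image, Finset.mem_image] at h5
    rcases h5 with ⟨k, hk, e⟩ | ⟨k, hk, e⟩
    · obtain ⟨rfl, rfl⟩ := Prod.mk.inj e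
      exact ⟨k, Finset.mem_range.1 hk, (h k (Finset.mem_range.1 hk)).2.2.2.2.2.1, Or.inl ⟨rfl, rfl⟩⟩
    · obtain ⟨rfl, rfl⟩ := Prod.mk.inj e
      exact ⟨k, Finset.mem_range.1 hk, (h k (Finset.mem_range.1 hk)).2.2.2.2.2.2, Or.inr ⟨rfl, rfl⟩⟩
  refine ⟨fun k hk => (h k hk).1, fun k hk => (h k hk).2.1, fun k hk => (h k hk).2.2.2.1, fun k hk => (h k hk).2.2.2.2.2.1,
    fun k hk => (h k hk).2.2.2.2.2.2, fun i hi j hj hR => ?_, fun i hi j hj hR => ?_⟩
  · obtain ⟨k, hk, rfl, -⟩ := h4 i hi j hj hR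
    exact hk
  · obtain ⟨k, -, rfl, h6⟩ := h4 i hi j hj hR
    exact h6

/-- the number of bits below 300 -/
theorem card_tb {x s : ℕ} (hx : x < 2 ^ N) (hN : N ≤ 300) (h : Nat.beq (Nat.add (pcHun x) (Nat.add (pcHun (Nat.shiftRight x 100))
    (pcHun (Nat.shiftRight x 200)))) s = true) : ((Finset.range N).filter fun j => tb x j = true).card = s := by
  have e : ∀ m, pcHun m = ∑ j ∈ Finset.range 100, if m.testBit j = true then 1 else 0 := fun m => by
    have h1 := (cntB_iff _ _ _).1 ((cntB_pcHun m (pcHun m)).trans (Nat.beq_refl _))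
    rw [← h1, Finset.card_filter]
    exact Finset.sum_congr rfl fun j _ => by rw [tb_eq]
  have h2 : pcHun x + (pcHun (x >>> 100) + pcHun (x >>> 200)) = s := Nat.eq_of_beq_eq_true h
  rw [e, e, e] at h2
  simp only [Nat.testBit_shiftRight] at h2
  have h3 := Finset.sum_range_add (fun j => if x.testBit j = true then 1 else 0) 100 (100 + 100)
  rw [Finset.sum_range_add (fun j => if x.testBit (100 + j) = true then 1 else 0)] at h3
  simp only [← Nat.add_assoc] at h3 h2
  rw [← h2, ← h3, ← Finset.card_filter]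
  refine congrArg Finset.card (Finset.ext fun j => ?_)
  rw [Finset.mem_filter, Finset.mem_filter, Finset.mem_range, Finset.mem_range, tb_eq]
  refine ⟨fun h4 => ⟨by omega, h4.2⟩, fun h4 => ⟨?_, h4.2⟩⟩
  by_contra h5
  rw [Nat.testBit_lt_two_pow (hx.trans_le (Nat.pow_le_pow_right (by norm_num) (Nat.le_of_not_lt h5)))] at h4
  exact Bool.false_ne_true h4.2

/-- the image of the pair `(a, b)` lies in the interval -/
def fqIn (ix : ℕ → ℕ → ℕ) (P lo hi a b : ℕ) : Bool :=
  fqz (lk P a) fun c => fqz (ix c (lk P b)) fun z => band (Nat.ble lo z) (Nat.ble (Nat.succ z) hi)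

/-- the pair `(c, d)` is mapped to the pair `(a, b)` -/
def fqTo (P a b c d : ℕ) : Bool :=
  fqz (lk P c) fun u => cond (Nat.beq u a) (Nat.beq (lk P d) b) (band (Nat.beq u b) (Nat.beq (lk P d) a))

/-- all checks at the pair `k` -/
def fqOne (N : ℕ) (R : ℕ → ℕ → Bool) (ea eb pr th : ℕ → ℕ) (ix : ℕ → ℕ → ℕ) (P Q lo hi v k : ℕ) : Bool :=
  fqz (ea k) fun a => fqz (eb k) fun b => band (Nat.ble (Nat.succ a) N) (band (Nat.ble (Nat.succ b) N) (band (nbeq a b)
    (band (R a b) (band (R b a) (band (Nat.beq (ix a b) k) (band (Nat.beq (ix b a) k) (band (Nat.beq (th k) v)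
    (band (fqIn ix P lo hi a b) (band (fqIn ix Q lo hi a b) (bor (Nat.beq lo k) (fqz (pr k) fun y =>
      band (Nat.ble (Nat.succ y) k) (band (Nat.ble lo y) (fqz (ea y) fun c => fqz (eb y) fun d =>
        bor (fqTo P a b c d) (fqTo Q a b c d))))))))))))))

/-- all checks, class by class -/
def fqAll (N M n : ℕ) (R : ℕ → ℕ → Bool) (ea eb pr th : ℕ → ℕ) (ix : ℕ → ℕ → ℕ) (bs : List ℕ) (kk : ℕ → ℕ) (P Q : ℕ) : Bool :=
  fqz P fun P => fqz Q fun Q => allB (fun j => fqz (rt bs j) fun lo => fqz (Nat.add lo (kk j)) fun hi => fqz (th lo) fun v =>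
    band (Nat.beq hi (cond (Nat.beq (Nat.succ j) n) M (rt bs (Nat.succ j)))) (band (Nat.ble hi M) (band (Nat.blt lo hi)
    (band (Nat.beq (lab bs lo) j) (band (Nat.beq (lab bs (Nat.pred hi)) j)
    (band (Nat.beq (Nat.add (Nat.mul 65535 v) 32768) (Nat.mul 32768 (Nat.pow 65536 j)))
    (allB (fun t => fqz (Nat.add lo t) (fqOne N R ea eb pr th ix P Q lo hi v)) (kk j)))))))) n

/-- What the pass gives. -/
structure FqOut (N M n : ℕ) (R : ℕ → ℕ → Bool) (ea eb pr th : ℕ → ℕ) (ix : ℕ → ℕ → ℕ) (bs : List ℕ) (kk : ℕ → ℕ)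
    (P Q : ℕ) : Prop where
  cov : ∀ x < M, lab bs x < n ∧ rt bs (lab bs x) ≤ x ∧ x < rt bs (lab bs x) + kk (lab bs x)
  iv : ∀ j < n, rt bs j < M ∧ ∀ x, rt bs j ≤ x → x < rt bs j + kk j → x < M ∧ lab bs x = j
  pts : ∀ k < M, ea k < N ∧ eb k < N ∧ ea k ≠ eb k ∧ R (ea k) (eb k) = true ∧
    R (eb k) (ea k) = true ∧ ix (ea k) (eb k) = k ∧ ix (eb k) (ea k) = k
  thm : ∀ k < M, 65535 * th k + 32768 = 32768 * 65536 ^ lab bs k
  lp : ∀ k < M, lab bs (ap ea eb ix P k) = lab bs k ∧ lab bs (ap ea eb ix Q k) = lab bs k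
  par : ∀ k < M, rt bs (lab bs k) = k ∨ (pr k < k ∧ lab bs (pr k) = lab bs k ∧
    (ap ea eb ix P (pr k) = k ∨ ap ea eb ix Q (pr k) = k))

variable {n : ℕ} {pr th kk : ℕ → ℕ} {bs : List ℕ} {P Q : ℕ}

theorem fqOut (hn : 0 < n) (h : fqAll N M n R ea eb pr th ix bs kk P Q = true) : FqOut N M n R ea eb pr th ix bs kk P Q := by
  have h0 := fun j hj => (allB_iff _ _).1 h j hj
  simp only [fqz_eq, band_eq_true, Nat.beq_eq, Nat.ble_eq, Nat.blt_eq, allB_iff, Nat.add_eq, Nat.mul_eq, Nat.pow_eq] at h0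
  have iv : ∀ j < n, rt bs j < M ∧ ∀ x, rt bs j ≤ x → x < rt bs j + kk j → x < M ∧ lab bs x = j := fun j hj => by
    obtain ⟨-, h1, h2, h3, h4, -⟩ := h0 j hj
    exact ⟨h2.trans_le h1, fun x h5 h6 => ⟨h6.trans_le h1, le_antisymm (h4 ▸ lab_mono bs (Nat.le_pred_of_lt h6))
      (h3 ▸ lab_mono bs h5)⟩⟩
  have c0 : ∀ m, m < n → ∀ x < rt bs m + kk m, ∃ j < n, rt bs j ≤ x ∧ x < rt bs j + kk j := fun m => by
    induction m with
    | zero => exact fun hm x hx => ⟨0, hm, Nat.zero_le _, hx⟩
    | succ m ih =>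
      intro hm x hx
      have h1 := (h0 m (Nat.lt_of_succ_lt hm)).1
      rw [Bool.eq_false_iff.2 fun e => Nat.ne_of_lt hm (Nat.eq_of_beq_eq_true e), cond_false] at h1
      rcases Nat.lt_or_ge x (rt bs m + kk m) with h2 | h2
      · exact ih (Nat.lt_of_succ_lt hm) x h2
      · exact ⟨m + 1, hm, h1 ▸ h2, hx⟩
  have cov : ∀ x < M, lab bs x < n ∧ rt bs (lab bs x) ≤ x ∧ x < rt bs (lab bs x) + kk (lab bs x) := fun x hx => by
    obtain ⟨m, rfl⟩ : ∃ m, n = m + 1 := ⟨n - 1, by omega⟩
    have h1 := (h0 m (Nat.lt_succ_self m)).1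
    rw [Nat.beq_refl, cond_true] at h1
    obtain ⟨j, hj, h2, h3⟩ := c0 m (Nat.lt_succ_self m) x (h1 ▸ hx)
    rw [((iv j hj).2 x h2 h3).2]
    exact ⟨hj, h2, h3⟩
  have one : ∀ k < M, fqOne N R ea eb pr th ix P Q (rt bs (lab bs k)) (rt bs (lab bs k) + kk (lab bs k))
      (th (rt bs (lab bs k))) k = true := fun k hk => by
    obtain ⟨h1, h2, h3⟩ := cov k hk
    have h4 := (h0 _ h1).2.2.2.2.2.2 (k - rt bs (lab bs k)) (by omega)
    rwa [Nat.add_sub_cancel' h2] at h4
  simp only [fqOne, fqIn, fqz_eq, band_eq_true, bor_iff, nbeq_iff, Nat.beq_eq, Nat.ble_eq, Nat.succ_le_iff] at one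
  have hto : ∀ k < M, ∀ P c d, fqTo P (ea k) (eb k) c d = true → ix (lk P c) (lk P d) = k := fun k hk P c d h1 => by
    have h2 : cond (Nat.beq (lk P c) (ea k)) (Nat.beq (lk P d) (eb k))
      (band (Nat.beq (lk P c) (eb k)) (Nat.beq (lk P d) (ea k))) = true := h1
    cases h3 : Nat.beq (lk P c) (ea k) with
    | true =>
      rw [h3, cond_true] at h2
      rw [Nat.eq_of_beq_eq_true h3, Nat.eq_of_beq_eq_true h2]
      exact (one k hk).2.2.2.2.2.1
    | false =>
      rw [h3, cond_false, band_eq_true] at h2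
      rw [Nat.eq_of_beq_eq_true h2.1, Nat.eq_of_beq_eq_true h2.2]
      exact (one k hk).2.2.2.2.2.2.1
  refine ⟨cov, iv, fun k hk => ?_, fun k hk => ?_, fun k hk => ?_, fun k hk => ?_⟩
  · obtain ⟨h1, h2, h3, h4, h5, h6, h7, -⟩ := one k hk
    exact ⟨h1, h2, h3, h4, h5, h6, h7⟩
  · rw [(one k hk).2.2.2.2.2.2.2.1]
    exact (h0 _ (cov k hk).1).2.2.2.2.2.1
  · obtain ⟨-, -, -, -, -, -, -, -, h1, h2, -⟩ := one k hk
    exact ⟨((iv _ (cov k hk).1).2 _ h1.1 h1.2).2, ((iv _ (cov k hk).1).2 _ h2.1 h2.2).2⟩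
  · obtain ⟨-, -, -, -, -, -, -, -, -, -, h1⟩ := one k hk
    exact h1.imp id fun h2 => ⟨h2.1, ((iv _ (cov k hk).1).2 _ h2.2.1 (h2.1.trans (cov k hk).2.2)).2,
      h2.2.2.imp (hto k hk _ _ _) (hto k hk _ _ _)⟩

theorem FqOut.filter_eq (F : FqOut N M n R ea eb pr th ix bs kk P Q) {j : ℕ} (hj : j < n) :
    (Finset.range M).filter (fun x => Nat.beq (lab bs x) j = true) = Finset.Ico (rt bs j) (rt bs j + kk j) := by
  ext x
  rw [Finset.mem_filter, Finset.mem_range, Finset.mem_Ico, Nat.beq_eq]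
  exact ⟨fun h => h.2 ▸ (F.cov x h.1).2, fun h => (F.iv j hj).2 x h.1 h.2⟩

theorem FqOut.chkK (F : FqOut N M n R ea eb pr th ix bs kk P Q) : chkK M n bs kk = true :=
  (band_eq_true _ _).2 ⟨(allB_iff _ _).2 fun x hx => Nat.blt_eq.mpr (F.cov x hx).1, (band_eq_true _ _).2
    ⟨(allB_iff _ _).2 fun j hj => Nat.blt_eq.mpr (F.iv j hj).1, (allB_iff _ _).2 fun j hj => (cntB_iff _ _ _).2 (by
      rw [F.filter_eq hj, Nat.card_Ico, Nat.add_sub_cancel_left])⟩⟩

theorem FqOut.chkW {S : Type} {T : S → ℕ} {x y : S} (F : FqOut N M n R ea eb pr th ix bs kk (T x) (T y))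
    (h : band (Nat.beq (ap ea eb ix (T x) 0) 0) (Nat.beq (ap ea eb ix (T y) 0) 0) = true) :
    allL (Pts.chkW (fun x => ap ea eb ix (T x)) M bs) [[x], [y]] = true :=
  (band_eq_true _ _).2 ⟨(band_eq_true _ _).2 ⟨((band_eq_true _ _).1 h).1, (allB_iff _ _).2 fun k hk =>
    Nat.beq_eq.mpr (F.lp k hk).1⟩, (band_eq_true _ _).2 ⟨(band_eq_true _ _).2 ⟨((band_eq_true _ _).1 h).2,
      (allB_iff _ _).2 fun k hk => Nat.beq_eq.mpr (F.lp k hk).2⟩, rfl⟩⟩

theorem FqOut.chkF {S : Type} {T : S → ℕ} {x y : S} (F : FqOut N M n R ea eb pr th ix bs kk (T x) (T y)) :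
    Pts.chkF (fun x => ap ea eb ix (T x)) M bs [[x], [y]] pr = true := by
  refine (allB_iff _ _).2 fun k hk => (bor_iff _ _).2 ((F.par k hk).imp Nat.beq_eq.mpr fun h => ?_)
  rw [forceB_eq]
  refine (band_eq_true _ _).2 ⟨Nat.blt_eq.mpr h.1, (band_eq_true _ _).2 ⟨Nat.beq_eq.mpr h.2.1, (bor_iff _ _).2
    (h.2.2.imp Nat.beq_eq.mpr fun h1 => (bor_iff _ _).2 (Or.inl (Nat.beq_eq.mpr h1)))⟩⟩

/-- the sum of `f (lo + t)`, `t < m`, is tested by `p` -/
def fqSum (f : ℕ → ℕ) (p : ℕ → Bool) (lo m : ℕ) : ℕ → Bool :=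
  Nat.rec p (fun t ih acc => fqz (Nat.add lo t) fun k => fqz (Nat.add acc (f k)) ih) m

theorem fqSum_eq (f : ℕ → ℕ) (p : ℕ → Bool) (lo m : ℕ) :
    ∀ acc, fqSum f p lo m acc = p (acc + ∑ t ∈ Finset.range m, f (lo + t)) := by
  induction m with
  | zero => exact fun _ => rfl
  | succ m ih =>
    intro acc
    rw [Finset.sum_range_succ, Nat.add_comm _ (f _), ← Nat.add_assoc]
    exact ih _

theorem pk_of_sum (p : ℕ → Bool) (f : ℕ → ℕ) (T : ℕ) : ∀ m acc : ℕ,
    acc + ∑ k ∈ (Finset.range m).filter (fun k => p k = true), 65536 ^ f k = T → pk p f T m acc = true := by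
  intro m
  induction m with
  | zero => exact fun acc h => Nat.beq_eq.mpr h
  | succ m ih =>
    intro acc h
    rw [Finset.range_add_one, Finset.filter_insert] at h
    rw [pk_succ]
    cases hp : p m with
    | true =>
      rw [hp, if_pos rfl, Finset.sum_insert fun h1 => Nat.lt_irrefl m (Finset.mem_range.1 (Finset.mem_filter.1 h1).1),
        ← Nat.add_assoc] at h
      rw [cond_true, forceB_eq]
      exact ih _ h
    | false =>
      rw [hp, if_neg Bool.false_ne_true] at h
      exact ih _ h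

/-- one row of the collapsed matrix, for a word of length at most one -/
def fqRow {S : Type} (ea eb th : ℕ → ℕ) (ix : ℕ → ℕ → ℕ) (T : S → ℕ) (lo m r t : ℕ) (w : List S) : Bool :=
  List.rec (band (Nat.beq 0 r) (fqSum th (fun s => Nat.beq (Nat.add (Nat.mul 65535 s) (Nat.mul 32768 m)) (Nat.mul 32768 t)) lo m 0))
    (fun x l _ => List.rec (fqz (T x) fun P => band (Nat.beq (ap ea eb ix P 0) r)
      (fqSum (fun k => Nat.rec 0 (fun c _ => th (ix c (lk P (eb k)))) (Nat.succ (lk P (ea k))))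
        (fun s => Nat.beq (Nat.add (Nat.mul 65535 s) (Nat.mul 32768 m)) (Nat.mul 32768 t)) lo m 0)) (fun _ _ _ => false) l) w

theorem FqOut.chkB {S : Type} {T : S → ℕ} (F : FqOut N M n R ea eb pr th ix bs kk P Q) (D : Data N M R ea eb ix)
    (hR : ∀ g ∈ G, ∀ i j : Fin N, R (g i) (g j) = R i j) (hT : ∀ x, InG G (T x)) {c₁ : ℕ} (hc : c₁ < n) {γ : ℕ → List S}
    {B : ℕ → ℕ → ℕ} (h : allB (fun i => fqRow ea eb th ix T (rt bs c₁) (kk c₁) (rt bs i) (row (B i) n) (γ i)) n = true) :
    Pts.chkB (fun x => ap ea eb ix (T x)) M n c₁ bs γ B = true := by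
  have key : ∀ (f : ℕ → ℕ) (t : ℕ), (∀ k < M, f k < M) → fqSum (fun k => th (f k)) (fun s => Nat.beq (Nat.add (Nat.mul 65535 s)
      (Nat.mul 32768 (kk c₁))) (Nat.mul 32768 t)) (rt bs c₁) (kk c₁) 0 = true →
      pk (fun k => Nat.beq (lab bs k) c₁) (fun k => lab bs (f k)) t M 0 = true := fun f t hf h1 => by
    rw [fqSum_eq] at h1
    have h2 : 65535 * (0 + ∑ u ∈ Finset.range (kk c₁), th (f (rt bs c₁ + u))) + 32768 * kk c₁ = 32768 * t :=
      Nat.eq_of_beq_eq_true h1
    refine pk_of_sum _ _ _ _ _ (Nat.eq_of_mul_eq_mul_left (show 0 < 32768 by norm_num) ?_)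
    rw [← h2, Nat.zero_add, Nat.zero_add, F.filter_eq hc, Finset.sum_Ico_eq_sum_range, Nat.add_sub_cancel_left,
      Finset.mul_sum, Finset.mul_sum, show 32768 * kk c₁ = ∑ _u ∈ Finset.range (kk c₁), 32768 by
        rw [Finset.sum_const, Finset.card_range, smul_eq_mul, Nat.mul_comm], ← Finset.sum_add_distrib]
    exact Finset.sum_congr rfl fun u hu => (F.thm _ (hf _ ((F.iv _ hc).2 _ (Nat.le_add_right _ _)
      (Nat.add_lt_add_left (Finset.mem_range.1 hu) _)).1)).symm
  refine (allB_iff _ _).2 fun i hi => ?_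
  have h1 := (allB_iff _ _).1 h i hi
  generalize γ i = w at h1 ⊢
  rcases w with _ | ⟨x, _ | ⟨y, l⟩⟩
  · exact (band_eq_true _ _).2 ⟨((band_eq_true _ _).1 h1).1, key (fun k => k) _ (fun _ hk => hk) ((band_eq_true _ _).1 h1).2⟩
  · refine (band_eq_true _ _).2 ⟨((band_eq_true _ _).1 h1).1, key (ap ea eb ix (T x)) _ (fun k hk => ?_)
      ((band_eq_true _ _).1 h1).2⟩
    obtain ⟨g, hg, h2⟩ := hT x
    have h3 : ix ((g ⟨ea k, D.lta k hk⟩ : Fin N) : ℕ) ((g ⟨eb k, D.ltb k hk⟩ : Fin N) : ℕ) < M := img_lt D (hR g hg) ⟨k, hk⟩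
    rwa [h2, h2] at h3
  · exact absurd h1 Bool.false_ne_true

/-- all sums of subsets -/
def fqSub (p : ℕ → Bool) (f : ℕ → ℕ) (m : ℕ) : ℕ → Bool :=
  Nat.rec p (fun j ih acc => band (ih acc) (fqz (Nat.add acc (f j)) ih)) m

theorem fqSub_spec (p : ℕ → Bool) (f : ℕ → ℕ) (m : ℕ) : ∀ acc, fqSub p f m acc = true →
    ∀ J : Finset ℕ, J ⊆ Finset.range m → p (acc + ∑ j ∈ J, f j) = true := by
  induction m with
  | zero =>
    intro acc h J hJ
    rw [Finset.subset_empty.1 hJ]
    exact h
  | succ m ih =>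
    intro acc h J hJ
    obtain ⟨h1, h2⟩ := (band_eq_true _ _).1 h
    have h3 : J.erase m ⊆ Finset.range m := fun j hj => Finset.mem_range.2 (Nat.lt_of_le_of_ne
      (Nat.le_of_lt_succ (Finset.mem_range.1 (hJ (Finset.mem_of_mem_erase hj)))) (Finset.ne_of_mem_erase hj))
    by_cases hm : m ∈ J
    · rw [← Finset.add_sum_erase J f hm, ← Nat.add_assoc]
      exact ih _ h2 _ h3
    · rw [← Finset.erase_eq_of_notMem hm]
      exact ih _ h1 _ h3

/-- the divisibility condition by sums of subsets -/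
theorem hdiv_of_sub {c st : ℕ} (hc : c < n) (hk : allB (fun j => Nat.ble 1 (kk j)) n = true)
    (h : fqSub (fun s => bor (Nat.beq s (kk c)) (Nat.ble 1 (Nat.mod st s))) (fun j => cond (Nat.beq j c) 0 (kk j)) n (kk c) = true) :
    ∀ J : Finset (Fin n), ⟨c, hc⟩ ∈ J → (∑ j ∈ J, kk j) ∣ st → J = {⟨c, hc⟩} := by
  intro J hJ hd
  have h1 := fqSub_spec _ _ _ _ h ((J.erase ⟨c, hc⟩).map Fin.valEmbedding) fun j hj => by
    obtain ⟨i, -, rfl⟩ := Finset.mem_map.1 hj
    exact Finset.mem_range.2 i.2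
  rw [Finset.sum_map, Finset.sum_congr rfl (g := fun j : Fin n => kk j) fun j hj => by
    rw [Fin.valEmbedding_apply, Bool.eq_false_iff.2 fun e => Finset.ne_of_mem_erase hj (Fin.ext (Nat.eq_of_beq_eq_true e)),
      cond_false],
    bor_iff, Nat.beq_eq, Nat.ble_eq] at h1
  rw [← Finset.add_sum_erase J _ hJ] at hd
  rcases h1 with h1 | h1
  · refine Finset.eq_singleton_iff_unique_mem.2 ⟨hJ, fun j hj => by_contra fun e => ?_⟩
    have h2 := Finset.single_le_sum (f := fun j : Fin n => kk j) (fun _ _ => Nat.zero_le _) (Finset.mem_erase.2 ⟨e, hj⟩)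
    have h3 := Nat.le_of_ble_eq_true ((allB_iff _ _).1 hk j j.2)
    omega
  · exact absurd (Nat.mod_eq_zero_of_dvd hd) (Nat.ne_of_gt h1)

end Cfsg.Agent.H678.DG.PairRep
end

-- part: H678/DG/JTwoDeg
section
set_option linter.all false

-- part: H678/DG/JTwoData
section
/-!
# Data for the action of the Hall-Janko group on 315 subsets of size 20 of the 100 points (helper678)

Generated file. `SM` = masks of 100 bits, `qA` … `qE` = the action of the generators on the indices, `PR` = the parents.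
-/

set_option autoImplicit false

namespace Cfsg.Agent.H678.DG.JTwoData

/-- masks of the subsets -/
def SM : ℕ := 0x13c1420004084114082003a0003c8d20022004180044003a0080e0660019806300000060030e024440200065208110003a00e340248800002121001104b00e822440400414200228003a00e35025100000a102000880e0067a02a0100002a0040040308163a022600000264080020304280e06600c030630000001800c1000000b0d04103c40052401104050880108a08011930401a00003005080588002aa2210448000c08806024100045550c0840400900b821208a9100010109000091240b400082a08a20412081a0050308184400640c0060040a188012c000216600240110800800d2901088000d5401a01c1001050cc088000a2040411000a0028822104a020c30c0480000802a0a840441155044012000c10c0310210a88003201601810012444210454008888006000501014412180e002c1048414100812802c8010590088009001500501484105089082041210000122090a840e1022c0060080300c00cc0040400b324022000100a2801a103581020c0060003081011090016608ca00a0000c08100a84888a10442042104109103310210004508c0090080090c4605000418610101060018101560210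080620c104090c0289008250880204c0880841c020081401900244221081881000002c11090071aa0040150100400484424044818311014800048030a02200c2914890044001811424214940804020840a0001080c8460081128941400531000812000c8051560082201220c088000488002aa2202c404e1090c4204000008910019024103005020041000455505280420a00280201042e20440584055001124020208a9100001301210501010402188000ab026808000d1080740010a2088308102a10800b0401045400888280218104504252011100081882049000410807041138008128210084284028850c0060440848041044040448244080183100708804c1080500340ac000820920005c140450214080280800d0800430402901250350400842040c03c20082900a0001c009082061833804280050000220840a10085204612002086204110410200a218a10001528044900448040800a8844c0000d50448100000d40a0318010b300010908018030d021080180c00320128081c448024a0110001410c8040180212806800d410440440144211005420041010891401602560201200202042e10208124002d808403020a4000c10c006080014090208a0101133050220881840902089810003404882000a40840144450508c002201401c108401018a8010c10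401a000a00023080b448410224202811c000210c2020a440092401100034410029801033220106081820022448054054004409006a02000291003206122085005080430010900340b40088a02200141924050102041041810182042312409042400028221104816580a009020a0300800880414412241280a006005100840094004250441101a0a800400584a82008c00844a000009328022904001044844c0000e30406100080c00321181200c70042090008c480006a00e881080220210241820148102006003c1048229048009040108c000c9029804020252409401002a006044142020240b09041000600704418210818820048800166020680104a21840124440006c0021018100c420044a0064812201204101012218848009510044140050280289021080116c004a0024c00200508050a22a820030041a0040880402422004199280820001c2028118121081820a0821500338041080100402308188283004430814b00000030840a20240c20102220433008900440690210906800d000820404182200880a02040451149082202c02008500844a00a101430021002c0a005005505004440a084220c0081200210a0822302640c4300121100330200108480900420920388424080102212009c010012440212600019848082a000000b8012aa2902005004121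01112402020881208a0160206c0a009821008a088000051800a848200229048030820a028390200502004804046418124002c828806020040444148402408a0c04124501040860012014a000210a81028e080082c006006181a8012802131000028003000e0200508146400660420c008a000252803488400444102402c080210a1020a6800820412c000210c41010e080094401a0c402209080c00220c30024011114802208820a0a000430c0414103003000090006614c058802804248440900a41820000506ac202980804288000082880241080402421280200eb0041050c0202058400504481014101285d101144044088080800019012002240a812006006083840480883404006900e0c0080210222c242c80108208411000801244c32245010810440100080128460488800048000299300298001111250148021510008300030407020090824a000960410c04218000b0401143c000406801110003200908a1020063480c0100012064904421c40042100340200c240860200330141400520060c00112022026089a00c0400604401110322a8001201c011c021204420044444088401408a140412412180c0004110244c32044110113020000108188281004070890aa010200404034010042608a02601111044003220c08080204880a284401c401540b3005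100004044088019000295240310210082006110602e1090832002000441088180201492210888088800046044211c20c2200a84004011400901201c120508018888088020052814a04820022c00007900090188010001a800dc110094048808800411804442410e002830804018009200218a903044048084008210424214460c44002100a1840c4020918800e100080920a004209040840240c30820412c42021a08042102081020c014a020201940050040620c1041851000034000900f192000230102900049242025000831500480084080484604a90888022005410301400440140004b306280028008a002182137800028006008200034019460446204208802008209290021020075500c000009206894042908082220031840c40429200080109180320004b4400129010212600046101640a2089100007088008015000294a001109101020860a0a0800011846042410106305020402492280488004040036044221c20c2010cc0004012201201100101506310251110400c0204000604100a84418210612060880020018820541b000c1282089048410042149028060008610460289000240040214b082280019010512420218040093000900840024a0224a808940410448041c00884600000299814810984840804019802c020008920005d440014a01000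290804c100010140e110941112800409083904004804048848084101940080604800cc04106006124804210110a2000a0005610a0580241181142044094080402068018041c010a022008011989022042180015200110b08204026012201080c020408112894016023e0200812002002442218124041048030000900c291480298080e00021180360a400086003080e008401844e0000c10600308080610807800f080080600308080609021880300c300600304503221080800a004144050815500330441000a08400401181110143000508111000a30a280110142100488015112201220120240c021006505114008220420240403080650801023026080e18d280228001000140098020208d2082300010a20441184051400424082020a11011043014143044010103021041104380218008030018aa014600420812184080104202a80408922081a820c00904410040228812810a82848800049800022820a820220c22804080064082220244242900064202026008910410422200a20a81000650808282042428200600210262e800021042c24820884001042c001404920c640a088804000208910049104c3214441041400028000190848220424084140062044058042a5084030810a006000880c02225c0c001020a002280880c40d4204120020610281100092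10c02140502006100811141122002840880044841168820228040290000b0409451408204280808b044412430310000011800c00c42404c0304a8088000050ca141211080028880008a8062000a04c200238210330001800c00c22402c030460444008400cb140211040048040460880610014892028840c0800442068011241020448044014083401602014c9200500140c0044802980164302009002403408208124084203380c042410000221800c2803440402900a01228001602461225100280050210208060880202218c005415000441800c38024404212002006281812404210251421001112800480604018210502204418044412120802c8c001221010a086000261011c1402004280004690805810018011242202498104404120402c8c8002220048014908222019c140400418880c0800019208041c200c0302200019818082c0020014804142b0828022201c11001300009a10201484888090484200c030a228020018041c00201044041460006b042280c11011500440a10a000830801401c440204a0160811000680129042488048009410041049044004c4020118120a9100029802100348a01080101600304908392002600804a0400043090422121126010022041200a11042a00410824006420c410821802a200008920022121023150240a0040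00a8006ca08094041840a20008880204213100912820241a02070000904c090020212841a021600440144084020601446208a010840200210341208146380a011001303000040a0812ea028812002080440048102426a02809020408006804014181c60e60019800040100080130006966001980100020060443000060600198063020061600c0001016061980631100006000308028050a05080428640900440018112442210480208a0840a0000800b290410004555440901000012409488002aa224045008130050148104540088a002214040880402c00005931081880001000b8412183d000414005100401204422044e10289004400110052801c901089020840a000c00a0a02210a081430c04404150101148218000928404900003001140190006622c104881c10090484608810088088005040c1880128208a9100020121000a002812810461264044050080090c4294000808093201220c028009821108a000c108188000818846060000166141400504109013a022008051089000908180015288188800244404210000904a4214044914101010a180000a440190075820008106000300488460040028b31404810000812090c801e5004a0021000100a2088a04051132440221004004815041078880120150000480300a8400c2914820412000c09004214980a04440848404029900134000026488a00901c0200810cc000244221240110001080c110908112894401a000181142310294080402c0060e3e0660000006300000003a00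

/-- action of the generator a -/
def qA : ℕ := 0x4e49d13826a4d09b9362644cc9892b2544b4971232604bc9011f24a4889391c2584988c92925046c8c12423c4549091d22844c8d11722c4448910e21a4408790a2104308310b1f6424821051d6404810db1b43586a8e420e364770d21ba380788f31e83707a8c017e3e4660cd2063a0678ea1742d4680fc1702d05e0f61bc37c7b8f22003fc7d0d71b03f87e8ab14c3e05b0e51d22ec760ed19432c570a814e2c44e89c17c2c0578f01de30c4b0e119c39c5b8e3172344730e21642cc630c21823244688c1a82a4550c818e34c520a51202244409310c214628c410e208490911162f44a0951402644c0a30fe1f8568ac12e1ec510a113627c4f07a0f02683e87911e23840875114210400830e81cc3e0770ec1c4390700de1b83685e0b8194330580ae1a4350560aa1742d8540a61b03106b0c2138258680ce190318600be1001e84d0981682804f0b21242504709010c1a03308c0c81885207c0fc2883b0780dc1702d0740b0158450881082082804e0e41c03606a0981283005e0a8148240460881081b0340740f01304007c0800f02a0480b80c0380580481903002c0401401c0140880d00800c0500700c00401000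

/-- action of the generator b -/
def qB : ℕ := 0x47c618761ea490950a1234210890ef1623b86b8c81b44d45e8e010a208489361da3844e0ab2741e0478bb0fa4cc5d094200458499040e64c4030b81e82cc550eb1122344f8c00602f05a1140b42dc2d91708c12c648e213a0c47288c1a611c9b90f0be290190512604b891874218398220541b83a87c8db0c43f0911281601fc368e71c84ac3b88a25a2646a8501ee3303f07b1960b4138d219e0fc7e92c136108170a52722541b10803412094906238464331102040902010521c160978df1001c0350a8240434318ac0ac298620f20ea1ac9a0262120507d92118e2186b04c07603c6111822a19c9282223a238850f80f2360858380bc268939320144981b8af1bc3448d87c1a00a84591e1b24e0518ec2261c8010ae0681286e8041442b40e85d1242e42700715238c0f00d1e621c3403d20240c098b203829c298e80aa020780d40181940c0981fc1b80c8be1ec3fc100e903e318178b51940242e02c12e014090881023041186f0223c47d1070823146703c02e1e81081619a280070b606a24014845086184348570362fc2484d0560a00a89e0b20e41981012c0943004f01620c1f0520c84441d06c0061c400001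

/-- action of the generator c -/
def qC : ℕ := 0x4e49d13826a4d09b9362644cc9892a2564b09192e25e4c08f9202484848e12725a464931282524688b92522a4789111423a4488d9182224588990c2164288411021e4387a10d1f23cc809021c8410828d61aa36c6d0eb1dc348838d91c03747790920c3005f8dc1ea3ec678d01f8384660bc16a2e8669031682e0750f71662c87b0f01fc3f47c0ca1964007f8a61563e85d8ec1da2d8728e91ae3605889d1382b8540a717a2b4560f21e2258618e81a23984a8e2128338738e31be3786488d118318610c11a6290528c5188350548aa12621842890112220640c710421c4788e1142f85c8b71461fc3f0a0132260580af0f625c4f89e134288508780f426c3e0771242443a88111620c3a0841001c83e8790e21d83986f0e01b43705c0bc198328570b01a8348550ac16c2e8530a81ac3086c0c412c270670d018c3205f0c00f42005009e1642684c0b411c24049094118190310860d0198510760f02903e07e0e81602b06e0b816842082114220270500d81a8390700941302f0600a4150230480841101a0360700981e03e080078100280440601703a0240b0180320280381500a0380900401a0080580800201801800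

/-- action of the generator d -/
def qD : ℕ := 0x29452138118308560b00f42101105f190488930b10a62a02d09c0764b41e09518c4b87004e188204670940fa0a87b0bb228458131172262405190803442c0f80f21c060681100603946d90017a1b02f1040c615c698e20503345e0f51924647c0bf1de30c690e31e6384210d912c110730330903a4830b41e03f077121142220570be20a1547609a10419c5306a1fa3c46890916a4747d0320801487b92f03c48c0911f1e44d8260b81e8370818f923011c038c00082d8678e41122889613409e374281350ca10c2312a03a3549d1392222c86f8930f622c0b1280c23604903610a3ac9211c1402641611205a2382693713c218598de0b62284b93207435c8f00c0701f88d80313e4cc0a0370e81d8030770e602c0706d0dc1bc381020b03502b05c1ac190558661fe1444d8092604041e86810e4a40986b1fc1a46d011256328310ad15e480468c10380d0228e71742a4248ea1543b4178cb0100342e92524e20c1707f0f02601a84a1d0330139070820e447891056468008fb062454010240464c40001921a31c5384b02043c1010a02e2740a8790b23142a01b2181c41f0800e40143003f1721d4050b70f809414821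

/-- action of the generator e -/
def qE : ℕ := 0x4d49b9382724cc9d13226c4d09892925048c9612d24047c9812f23c4848d91a25c4649312b25449c8c11524a4909111d2284588e1172264488890c2104288591021a4387910f1d23706d9001c63587f1041a8404698e219e334660d0192318618c01e04245f0f317a3b4770d9170398838b51783a8690b42063f05d0b11603085710620a2ac760a8190408530ff1fa394518f81f62807d0f913a3147b8d71363d86509a1ea3784b8f412c3c4778e7126384490eb132240740e411a2b4700df1163745908a1b4224510d810e3544309f1a22a4420ce14820c6588218e3105b8811822fc3f88f1762e43e8b61281f05987b15e2b05507a14e2943c0a113c2704c07912a1d44888e118220400850e81d83f0770e61c83886d0dc1bc380640c61602b8650cc19c3406c0d61682c8520a2158270550961883086a0d21782e04007a1802f846074174218370b60d0228320841402483009a11c1785405c0e42982c06c13c1f02a0980ec1484a050120138440820fc1303c04a0e01a8330620b4158220420901181903004c0e01d02003c1001f01c0440580a03c0240b01b03405c0400502a0500900d0080180600700600800800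

/-- parents -/
def PR : ℕ := 0x4d49a1332664cc991322644c41112925048c9112124047c8f91f23c4748d91a2324648c91822e4588b11522a4548a113224448889112224440310920e410819011f83cc790ee1d23706d8da1b23586a8d41a834c698d219e334660ca192318618c017e2f85f0bd17a2f05d0b81702dc5a8b516a2d45a0b41682d0590b11602bc570ac1562ac550a814e298530a614c294518a21422804f89e13a2704d89b1362684d09a13225c4b89612c2584b095126248490911222404788e11a2304588b1162284508a1122244408710e218430851082104208310620c41082104208408811001fc3f87e0fa1f43e87c0f81f03d87b0f61ec3d07a0f21e03c0780f01dc3b0760ea1d43a8750e81cc398720e41c8388710e21c40106c0d61883085c0b81602b8570ae1582a8550aa150298520a21402704d09612c2584908e1102084007a0f41e83a0740e01b83706a0d0198320620c01803005e0bc1782e05c0b41602c0560a81502a0520a41482805009c1382704e0981302504a09412824046088108210420840001903004c0901102003c0780f01c0340580a0120240480800e0180300500a014020030040080080100200400000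

end Cfsg.Agent.H678.DG.JTwoData
end

-- part: H678/DG/JTwoDeg
section
/-!
# The Hall-Janko group has irreducible characters of degrees 36, 90, 160 (helper678)

The action on the 315 subsets of size 20 (fixed points of the involutions of class 2A); the relation is "the intersection
has size 12".
-/

set_option autoImplicit false
set_option maxRecDepth 100000

namespace Cfsg.Agent.H678.DG.JTwoDeg

open Cfsg Equiv Cfsg.Agent.SporadicA.PermTab Cfsg.Agent.SporadicA.J2Data Cfsg.Agent.SporadicA.J2Hundred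
open Cfsg.Agent.H678.DG.JTwoData Cfsg.Agent.H678.DG.Blk

/-- the mask of the subset -/
def mk (x : ℕ) : ℕ := Nat.land (Nat.shiftRight SM (Nat.mul 100 x)) 1267650600228229401496703205375

/-- the tables -/
def PQ : List (ℕ × ℕ) := [(tA, qA), (tB, qB), (tC, qC), (tD, qD), (tE, qE)]

/-- the roots -/
def bs : List ℕ := [1, 33, 113, 273, 305]

/-- words of the stabiliser -/
def KW : List (List (ℕ × ℕ)) := [[(tA, qA)], [(tC, qC)], [(tE, qE)],
  [(tD, qD), (tC, qC), (tD, qD), (tE, qE), (tD, qD), (tC, qC), (tD, qD)],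
  [(tB, qB), (tA, qA), (tB, qB), (tC, qC), (tD, qD), (tC, qC), (tB, qB), (tA, qA), (tB, qB)]]

/-- sizes -/
def kk (j : ℕ) : ℕ := [1, 32, 80, 160, 32, 10].getD j 0

/-- the collapsed matrix -/
def B (i j : ℕ) : ℕ := ([[0, 0, 0, 0, 0, 10], [0, 0, 0, 5, 5, 0], [0, 0, 1, 8, 0, 1], [0, 1, 4, 4, 1, 0],
  [0, 5, 0, 5, 0, 0], [1, 0, 8, 0, 0, 1]].getD i []).getD j 0

theorem c1 : allL (chkPQ 100 315 mk) PQ = true := chkPQ_of_c (by decide +kernel)
theorem c2 : chkInj 315 100 mk = true := chkInj_of_res 8269 (by decide +kernel)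
theorem c3 : allL (chkW 315 bs) KW = true := by decide +kernel
theorem c4 : chkF 315 bs PQ KW (lk PR) = true := by decide +kernel
theorem c5 : chkK 315 6 bs kk = true := by decide +kernel
theorem c6 : chkB 100 315 6 12 mk bs B = true := chkB_of_pc (by decide +kernel)

theorem hGT : ∀ g ∈ gens, ∃ pq ∈ PQ, ∀ i : Fin 100, ((g i : Fin 100) : ℕ) = lk pq.1 i := by
  rintro g (rfl | rfl | rfl | rfl | rfl)
  · exact ⟨(tA, qA), by simp [PQ], fun i => mkPerm_val tA tA iA i⟩
  · exact ⟨(tB, qB), by simp [PQ], fun i => mkPerm_val tB tB iB i⟩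
  · exact ⟨(tC, qC), by simp [PQ], fun i => mkPerm_val tC tC iC i⟩
  · exact ⟨(tD, qD), by simp [PQ], fun i => mkPerm_val tD tD iD i⟩
  · exact ⟨(tE, qE), by simp [PQ], fun i => mkPerm_val tE tE iE i⟩

theorem hin : ∀ pq ∈ PQ, InG G pq.1 := by
  intro pq h
  simp only [PQ, List.mem_cons, List.not_mem_nil, or_false] at h
  rcases h with rfl | rfl | rfl | rfl | rfl
  exacts [inA, inB, inC, inD, inE]

theorem hKW : ∀ w ∈ KW, ∀ pq ∈ w, pq ∈ PQ := by
  intro w hw pq hpq
  simp only [KW, List.mem_cons, List.not_mem_nil, or_false] at hw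
  unfold PQ
  rcases hw with rfl | rfl | rfl | rfl | rfl <;>
  · simp only [List.mem_cons, List.not_mem_nil, or_false] at hpq ⊢
    tauto

/-- The degree for an eigenvalue. -/
theorem deg (a : Fin 6 → ℚ) (t : ℚ) (L : Fin 6 → Fin 6 → ℚ) (d : ℕ)
    (ha : a 0 = 1) (hBa : ∀ i : Fin 6, ∑ j : Fin 6, (B i j : ℚ) * a j = t * a i)
    (hL : ∀ i j : Fin 6, ∑ l : Fin 6, L i l * ((B l j : ℚ) - if l = j then t else 0) =
      (if i = j then 1 else 0) - if j = 0 then a i else 0)
    (hd : (d : ℚ) * ∑ j : Fin 6, (kk j : ℚ) * (a j * a j) = (315 : ℕ)) :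
    ∃ χ : IrrCharacter G, charDegree (χ : G → ℂ) = d :=
  deg_of_tables (s := 12) (rfl : G = Subgroup.closure gens) hGT hin hKW (by norm_num) rfl c1 c2 c3 c4 c5 c6 (by norm_num) a t
    L d ha hBa hL hd

theorem deg_90 : ∃ χ : IrrCharacter G, charDegree (χ : G → ℂ) = 90 :=
  deg ![1, 1/8, -1/20, -1/20, 1/8, 3/10] 3 ![![0, 0, 0, 0, 0, 0], ![1/24, 7/24, -5/12, -5/24, 5/12, 0],
    ![-1/60, -1/6, 1/6, 1/3, -1/6, 0], ![-1/60, -1/24, 1/6, 1/12, -1/24, 0], ![1/24, 5/12, -5/12, -5/24, 7/24, 0],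
    ![1/10, 0, 0, 0, 0, 0]] 90 (by decide +kernel) (by decide +kernel) (by decide +kernel) (by decide +kernel)

end Cfsg.Agent.H678.DG.JTwoDeg
end

private theorem dce_b1a0cf59c4e4 : _root_.True := by
  try have : _root_.True := by simp only [_root_.Cfsg.Agent.H678.DG.JTwoDeg.KW.eq_1]
  try have : _root_.True := by simp only [_root_.Cfsg.Agent.H678.DG.JTwoDeg.PQ.eq_1]
  exact _root_.True.intro
end

-- part: H300/K4/Val
section
set_option linter.all false
open scoped Cfsg.Agent.FastGrp

/-!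
# Irreducible characters from spherical functions on an orbit of subsets, with their values (helper300)

* `exists_val` : `V` is a `G`-invariant space of functions on `X`, `Ω` an invariant hermitian kernel with `Ω x₀` in `V`,
  and the functions of `V` fixed by the subgroup `K` of the stabiliser of `x₀` are the multiples of `Ω x₀`. Then `V`
  affords an irreducible character with the values `|v|⁻² ∑ Ω x (g⁻¹ x)`.
* `exists_of_kernel_val`, `exists_of_index_val`, `of_tables` : as in helper678's `Sph`, `Idx`, `Blk`, with the values.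
-/

set_option autoImplicit false

namespace Cfsg.Agent.H300.K4.Val

open Cfsg Representation Cfsg.Agent.H678.DG.Sph
open scoped ComplexConjugate

universe u v

section main

variable {G : Type u} [Group G] [Finite G] {X : Type v} [Fintype X] [MulAction G X]

variable {V : Submodule ℂ (X → ℂ)}

/-- **Spherical functions, with values.** -/
theorem exists_val [MulAction.IsPretransitive G X]
    (hV : ∀ (g : G), ∀ φ ∈ V, (fun x => φ (g⁻¹ • x)) ∈ V) (x₀ : X) (Ω : X → X → ℂ)
    (hΩ : ∀ (g : G) x y, Ω (g • x) (g • y) = Ω x y) (hΩs : ∀ x y, Ω x y = conj (Ω y x))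
    (hv : Ω x₀ ∈ V) (hv1 : Ω x₀ x₀ = 1)
    (K : Subgroup G) (hK : ∀ g ∈ K, g • x₀ = x₀)
    (huniq : ∀ φ ∈ V, (∀ g ∈ K, ∀ x, φ (g • x) = φ x) → ∃ c : ℂ, φ = c • Ω x₀) :
    ∃ χ : IrrCharacter G, (charDegree (χ : G → ℂ) : ℂ) * nrm (Ω x₀) = (Fintype.card X : ℂ) ∧
      ∀ g : G, (χ : G → ℂ) g = (nrm (Ω x₀))⁻¹ * ∑ x, Ω x (g⁻¹ • x) := by
  classical
  obtain ⟨χ, h1, h2⟩ := exists_of_spherical' hV x₀ hv hv1 K hK huniq
  refine ⟨χ, h1, fun g => ?_⟩
  have hN0 := nrm_ne_zero hv1
  have hvK : ∀ g : G, g • x₀ = x₀ → ∀ x, Ω x₀ (g • x) = Ω x₀ x := by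
    intro g hg x
    conv_lhs => rw [← hg]
    exact hΩ g x₀ x
  have huniq' : ∀ φ ∈ V, (∀ g : G, g • x₀ = x₀ → ∀ x, φ (g • x) = φ x) → ∃ c : ℂ, φ = c • Ω x₀ :=
    fun φ hφ h => huniq φ hφ fun g hg => h g (hK g hg)
  -- the reproducing property
  have hrep : ∀ φ ∈ V, ∀ y, ∑ x, φ x * conj (Ω y x) = φ y * nrm (Ω x₀) := by
    intro φ hφ y
    obtain ⟨γ, rfl⟩ := MulAction.exists_smul_eq G x₀ y
    have h3 := (average x₀ hv1 hvK huniq' V le_rfl hV (hV γ⁻¹ φ hφ)).2
    simp only [inv_inv] at h3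
    rw [← h3, ← Equiv.sum_comp (MulAction.toPerm γ) fun x => φ x * conj (Ω (γ • x₀) x)]
    refine Finset.sum_congr rfl fun x _ => ?_
    rw [MulAction.toPerm_apply, hΩ]
  have hmemV : ∀ (g : G) (x : X), (fun y => Ω x (g⁻¹ • y)) ∈ V := by
    intro g x
    obtain ⟨γ, rfl⟩ := MulAction.exists_smul_eq G x₀ x
    have h3 := hV (g * γ) (Ω x₀) hv
    have h4 : (fun y => Ω (γ • x₀) (g⁻¹ • y)) = fun y => Ω x₀ ((g * γ)⁻¹ • y) := by
      funext y
      rw [mul_inv_rev, mul_smul, ← hΩ γ x₀, smul_inv_smul]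
    rw [h4]
    exact h3
  let T : (X → ℂ) →ₗ[ℂ] (X → ℂ) := Matrix.toLin' (Matrix.of fun y x => (nrm (Ω x₀))⁻¹ * Ω x (g⁻¹ • y))
  have hT : ∀ φ y, T φ y = ∑ x, (nrm (Ω x₀))⁻¹ * Ω x (g⁻¹ • y) * φ x := fun φ y => by
    show Matrix.toLin' _ φ y = _
    rw [Matrix.toLin'_apply, Matrix.mulVec, dotProduct]
    rfl
  have hTV : ∀ φ, T φ ∈ V := by
    intro φ
    have h3 : T φ = ∑ x, ((nrm (Ω x₀))⁻¹ * φ x) • (fun y => Ω x (g⁻¹ • y)) := by
      funext y
      rw [hT, Finset.sum_apply]
      refine Finset.sum_congr rfl fun x _ => ?_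
      rw [Pi.smul_apply, smul_eq_mul]
      ring
    rw [h3]
    exact V.sum_mem fun x _ => V.smul_mem _ (hmemV g x)
  have hTr : ∀ φ ∈ V, ∀ y, T φ y = φ (g⁻¹ • y) := by
    intro φ hφ y
    rw [hT]
    have h3 := hrep φ hφ (g⁻¹ • y)
    have h4 : ∑ x, (nrm (Ω x₀))⁻¹ * Ω x (g⁻¹ • y) * φ x = (nrm (Ω x₀))⁻¹ * ∑ x, φ x * conj (Ω (g⁻¹ • y) x) := by
      rw [Finset.mul_sum]
      refine Finset.sum_congr rfl fun x _ => ?_
      rw [← hΩs]
      ring
    rw [h4, h3, mul_comm (φ _), ← mul_assoc, inv_mul_cancel₀ hN0, one_mul]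
  have h5 : rep V hV g = T.restrict (fun φ _ => hTV φ) := by
    apply LinearMap.ext
    intro φ
    apply Subtype.ext
    funext y
    show (φ : X → ℂ) (g⁻¹ • y) = T φ y
    rw [hTr φ φ.2]
  rw [h2]
  show LinearMap.trace ℂ V (rep V hV g) = _
  rw [h5, Cfsg.Agent.PermChar.SymAlt.trace_restrict T V hTV]
  show LinearMap.trace ℂ (X → ℂ) (Matrix.toLin' _) = _
  rw [Matrix.trace_toLin'_eq, Finset.mul_sum]
  rfl

variable {n : ℕ}

/-- **The constituent belonging to a simple eigenvalue of an invariant rational kernel.** -/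
theorem exists_of_kernel_val [MulAction.IsPretransitive G X] (E : X → X → ℚ)
    (hE : ∀ (g : G) x y, E (g • x) (g • y) = E x y) (x₀ : X) (K : Subgroup G) (hK : ∀ g ∈ K, g • x₀ = x₀)
    (cls : X → Fin n) (r : Fin n → X) (hcls : ∀ g ∈ K, ∀ x, cls (g • x) = cls x)
    (htr : ∀ x, ∃ g ∈ K, g • r (cls x) = x) (B : Fin n → Fin n → ℚ)
    (hB : ∀ i j, ∑ y ∈ Finset.univ.filter (fun y => cls y = j), E (r i) y = B i j)
    (k : Fin n → ℕ) (hk : ∀ j, (Finset.univ.filter fun y => cls y = j).card = k j) (c : Fin n) (hc : cls x₀ = c)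
    (a : Fin n → ℚ) (t : ℚ) (L : Fin n → Fin n → ℚ) (d N : ℕ) (hN : Fintype.card X = N)
    (ha : a c = 1) (hBa : ∀ i, ∑ j, B i j * a j = t * a i)
    (hL : ∀ i j, ∑ l, L i l * (B l j - if l = j then t else 0) =
      (if i = j then 1 else 0) - if j = c then a i else 0)
    (hd : (d : ℚ) * ∑ j, (k j : ℚ) * (a j * a j) = N)
    (Ω : X → X → ℚ) (hΩ : ∀ (g : G) x y, Ω (g • x) (g • y) = Ω x y) (hΩs : ∀ x y, Ω x y = Ω y x)
    (hΩa : ∀ i, Ω x₀ (r i) = a i) :
    ∃ χ : G → ℂ, IsIrrCharacter G χ ∧ χ 1 = d ∧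
      ∀ g : G, χ g = (((d : ℚ) / N * ∑ x, Ω x (g⁻¹ • x) : ℚ) : ℂ) := by
  classical
  have hsum := sum_kernel (fun x y => (E x y : ℂ)) cls r (fun i j => (B i j : ℂ)) (fun i j => by
    rw [← hB]; push_cast; rfl)
  let V : Submodule ℂ (X → ℂ) :=
    { carrier := {φ | ∀ x, ∑ y, (E x y : ℂ) * φ y = (t : ℂ) * φ x}
      add_mem' := by
        intro φ ψ h1 h2 x
        have h3 : ∀ y, (E x y : ℂ) * (φ + ψ) y = (E x y : ℂ) * φ y + (E x y : ℂ) * ψ y := fun y => by
          rw [Pi.add_apply, mul_add]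
        rw [Finset.sum_congr rfl fun y _ => h3 y, Finset.sum_add_distrib, h1 x, h2 x, Pi.add_apply]
        ring
      zero_mem' := by
        intro x
        simp
      smul_mem' := by
        intro c φ h1 x
        have h3 : ∀ y, (E x y : ℂ) * (c • φ) y = c * ((E x y : ℂ) * φ y) := fun y => by
          rw [Pi.smul_apply, smul_eq_mul]; ring
        rw [Finset.sum_congr rfl fun y _ => h3 y, ← Finset.mul_sum, h1 x, Pi.smul_apply, smul_eq_mul]
        ring }
  have hVm : ∀ φ : X → ℂ, φ ∈ V ↔ ∀ x, ∑ y, (E x y : ℂ) * φ y = (t : ℂ) * φ x := fun _ => Iff.rfl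
  have htrans : ∀ (g : G) (φ : X → ℂ) x, ∑ y, (E x y : ℂ) * φ (g⁻¹ • y) = ∑ y, (E (g⁻¹ • x) y : ℂ) * φ y := by
    intro g φ x
    rw [← Equiv.sum_comp (MulAction.toPerm g) fun y => (E x y : ℂ) * φ (g⁻¹ • y)]
    refine Finset.sum_congr rfl fun y _ => ?_
    rw [MulAction.toPerm_apply, inv_smul_smul]
    have h1 : E x (g • y) = E (g⁻¹ • x) y := by
      rw [← hE g (g⁻¹ • x) y, smul_inv_smul]
    rw [h1]
  have hVG : ∀ (g : G), ∀ φ ∈ V, (fun x => φ (g⁻¹ • x)) ∈ V := by
    intro g φ h1
    rw [hVm] at h1 ⊢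
    intro x
    rw [htrans, h1]
  have hΩcls : ∀ x, Ω x₀ x = a (cls x) := by
    intro x
    obtain ⟨g, hg, hx⟩ := htr x
    have h := hΩ g x₀ (r (cls x))
    rw [hK g hg, hx] at h
    rw [h, hΩa]
  have he : (fun x => ((Ω x₀ x : ℚ) : ℂ)) ∈ V := by
    rw [hVm]
    intro x
    obtain ⟨g, hg, hx⟩ := htr x
    have h1 := htrans g⁻¹ (fun y => ((Ω x₀ y : ℚ) : ℂ)) (r (cls x))
    rw [inv_inv, hx] at h1
    rw [← h1]
    have h2 : ∀ y, (E (r (cls x)) y : ℂ) * ((Ω x₀ (g • y) : ℚ) : ℂ) = (E (r (cls x)) y : ℂ) * ((a (cls y) : ℚ) : ℂ) := by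
      intro y
      rw [hΩcls, hcls g hg]
    rw [Finset.sum_congr rfl fun y _ => h2 y, hsum (fun i => (a i : ℂ)) (cls x), hΩcls]
    exact_mod_cast hBa (cls x)
  obtain ⟨χ, h1, h2⟩ := exists_val (V := V) hVG x₀ (fun x y => ((Ω x y : ℚ) : ℂ)) (fun g x y => by rw [hΩ])
    (fun x y => by rw [hΩs x y, ← Complex.ofReal_ratCast, Complex.conj_ofReal]) he (by
      show ((Ω x₀ x₀ : ℚ) : ℂ) = 1
      rw [hΩcls, hc, ha, Rat.cast_one]) K hK (by
    intro φ hφ hK'
    let a' : Fin n → ℂ := fun i => φ (r i)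
    have haφ : ∀ x, φ x = a' (cls x) := by
      intro x
      obtain ⟨g, hg, hx⟩ := htr x
      show φ x = φ (r (cls x))
      rw [← hK' g hg (r (cls x)), hx]
    have h2 : ∀ i, ∑ j, (B i j : ℂ) * a' j = (t : ℂ) * a' i := by
      intro i
      rw [← hsum a' i]
      have h3 := (hVm φ).1 hφ (r i)
      rw [Finset.sum_congr rfl fun y _ => by rw [haφ y]] at h3
      exact h3
    have huniq : ∀ i, a' i = a' c * a i := by
      intro i
      have h1 : ∑ l, (L i l : ℂ) * (∑ j, ((B l j : ℂ) - if l = j then (t : ℂ) else 0) * a' j) = 0 := by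
        refine Finset.sum_eq_zero fun l _ => ?_
        have h2' : ∑ j, ((B l j : ℂ) - if l = j then (t : ℂ) else 0) * a' j = 0 := by
          simp only [sub_mul, ite_mul, zero_mul]
          rw [Finset.sum_sub_distrib, Finset.sum_ite_eq, if_pos (Finset.mem_univ _), h2 l, sub_self]
        rw [h2', mul_zero]
      have h3 : ∑ l, (L i l : ℂ) * (∑ j, ((B l j : ℂ) - if l = j then (t : ℂ) else 0) * a' j) =
          ∑ j, (∑ l, (L i l : ℂ) * ((B l j : ℂ) - if l = j then (t : ℂ) else 0)) * a' j := by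
        simp only [Finset.mul_sum, Finset.sum_mul]
        rw [Finset.sum_comm]
        refine Finset.sum_congr rfl fun j _ => Finset.sum_congr rfl fun l _ => ?_
        ring
      have h4 : ∀ j, ∑ l, (L i l : ℂ) * ((B l j : ℂ) - if l = j then (t : ℂ) else 0) =
          (if i = j then (1 : ℂ) else 0) - if j = c then (a i : ℂ) else 0 := by
        intro j
        have h5 := congrArg (fun q : ℚ => (q : ℂ)) (hL i j)
        simp only [Rat.cast_sub, Rat.cast_sum, Rat.cast_mul, apply_ite (Rat.cast : ℚ → ℂ), Rat.cast_one,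
          Rat.cast_zero] at h5
        exact h5
      rw [h3, Finset.sum_congr rfl fun j _ => by rw [h4 j]] at h1
      simp only [sub_mul, ite_mul, zero_mul, one_mul] at h1
      rw [Finset.sum_sub_distrib, Finset.sum_ite_eq, Finset.sum_ite_eq', if_pos (Finset.mem_univ _),
        if_pos (Finset.mem_univ _)] at h1
      linear_combination h1
    refine ⟨a' c, funext fun x => ?_⟩
    show φ x = a' c * ((Ω x₀ x : ℚ) : ℂ)
    rw [haφ, huniq, hΩcls])
  -- the norm
  have hnrm : nrm (fun x => ((Ω x₀ x : ℚ) : ℂ)) = ((∑ j, (k j : ℚ) * (a j * a j) : ℚ) : ℂ) := by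
    have h3 : (fun x => ((Ω x₀ x : ℚ) : ℂ)) = fun x => ((a (cls x) : ℚ) : ℂ) := by
      funext x
      rw [hΩcls]
    rw [h3, nrm_cls cls k hk fun i => ((a i : ℚ) : ℂ)]
    push_cast
    refine Finset.sum_congr rfl fun j _ => ?_
    rw [← Complex.ofReal_ratCast, Complex.conj_ofReal]
  rw [hnrm] at h1 h2
  have hN0 : (N : ℚ) ≠ 0 := by
    have h4 : 0 < Fintype.card X := Fintype.card_pos_iff.2 ⟨x₀⟩
    rw [hN] at h4
    exact Nat.cast_ne_zero.2 h4.ne'
  have hs0 : (∑ j, (k j : ℚ) * (a j * a j)) ≠ 0 := by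
    intro h0
    rw [h0, mul_zero] at hd
    exact hN0 hd.symm
  have hd0 : (d : ℚ) ≠ 0 := by
    intro h0
    rw [h0, zero_mul] at hd
    exact hN0 hd.symm
  have hinv : (∑ j, (k j : ℚ) * (a j * a j))⁻¹ = (d : ℚ) / N := by
    rw [← hd]
    field_simp
  refine ⟨χ, χ.2, ?_, fun g => ?_⟩
  · have h5 : (charDegree (χ : G → ℂ) : ℚ) * (∑ j, (k j : ℚ) * (a j * a j)) = N := by
      rw [hN] at h1
      exact_mod_cast h1
    have h6 : (charDegree (χ : G → ℂ) : ℚ) = d := mul_right_cancel₀ hs0 (h5.trans hd.symm)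
    rw [Cfsg.Agent.Blocks.Basic.irr_one_eq_charDegree χ.2]
    exact_mod_cast h6
  · rw [h2 g, ← hinv]
    push_cast
    rfl

end main

section index

variable {G : Type u} [Group G] [Finite G] {Y : Type v} [MulAction G Y] {M n : ℕ}

open Cfsg.Agent.H678.DG.Idx

/-- **The case of an indexed orbit.** -/
theorem of_index (y : Fin M → Y) (hinj : Function.Injective y) (i₀ : Fin M)
    (hcl : ∀ g : G, ∀ i, ∃ j, g • y i = y j) (htrG : ∀ i, ∃ g : G, g • y i₀ = y i)
    (K : Subgroup G) (hK : ∀ g ∈ K, g • y i₀ = y i₀) (cls : Fin M → Fin n) (r : Fin n → Fin M)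
    (hcls : ∀ g ∈ K, ∀ i j, g • y i = y j → cls j = cls i)
    (htr : ∀ i, ∃ g ∈ K, g • y (r (cls i)) = y i)
    (E : Y → Y → Bool) (hE : ∀ (g : G) x z, E (g • x) (g • z) = E x z) (B : Fin n → Fin n → ℕ)
    (hB : ∀ i j, (Finset.univ.filter fun k : Fin M => E (y (r i)) (y k) = true ∧ cls k = j).card = B i j)
    (kk : Fin n → ℕ) (hk : ∀ j, (Finset.univ.filter fun i => cls i = j).card = kk j) (c : Fin n) (hc : cls i₀ = c)
    (a : Fin n → ℚ) (t : ℚ) (L : Fin n → Fin n → ℚ) (d : ℕ)
    (ha : a c = 1) (hBa : ∀ i, ∑ j, (B i j : ℚ) * a j = t * a i)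
    (hL : ∀ i j, ∑ l, L i l * ((B l j : ℚ) - if l = j then t else 0) =
      (if i = j then 1 else 0) - if j = c then a i else 0)
    (hd : (d : ℚ) * ∑ j, (kk j : ℚ) * (a j * a j) = M)
    (Ω : Y → Y → ℚ) (hΩ : ∀ (g : G) x z, Ω (g • x) (g • z) = Ω x z) (hΩs : ∀ x z, Ω x z = Ω z x)
    (hΩa : ∀ i, Ω (y i₀) (y (r i)) = a i) :
    ∃ χ : G → ℂ, IsIrrCharacter G χ ∧ χ 1 = d ∧
      ∀ g : G, χ g = (((d : ℚ) / M * ∑ i, Ω (y i) (g⁻¹ • y i) : ℚ) : ℂ) := by
  classical
  let act : MulAction G (Orb y) := orbAct y hcl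
  let e := eqv y hinj
  let ft : Fintype (Orb y) := Fintype.ofEquiv _ e
  have hsm : ∀ (g : G) (x : Orb y), (g • x).1 = g • x.1 := fun _ _ => rfl
  have he : ∀ i, (e i).1 = y i := fun _ => rfl
  have hes : ∀ x : Orb y, y (e.symm x) = x.1 := fun x => by rw [← he, e.apply_symm_apply]
  have htrans : MulAction.IsPretransitive G (Orb y) := by
    have key : ∀ x : Orb y, ∃ g : G, g • e i₀ = x := by
      intro x
      obtain ⟨g, hg⟩ := htrG (e.symm x)
      refine ⟨g, Subtype.ext ?_⟩
      rw [hsm, he, hg, hes]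
    refine ⟨fun x z => ?_⟩
    obtain ⟨g, rfl⟩ := key x
    obtain ⟨h, rfl⟩ := key z
    exact ⟨h * g⁻¹, by rw [mul_smul, inv_smul_smul]⟩
  have hcard : Fintype.card (Orb y) = M := by
    rw [Fintype.card_congr e.symm, Fintype.card_fin]
  obtain ⟨χ, h1, h2, h3⟩ := exists_of_kernel_val (X := Orb y) (fun x z => if E x.1 z.1 = true then 1 else 0)
    (fun g x z => by
      have h := hE g x.1 z.1
      rw [← hsm, ← hsm] at h
      rw [h]) (e i₀) K
    (fun g hg => Subtype.ext (hK g hg)) (fun x => cls (e.symm x)) (fun i => e (r i)) (by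
      intro g hg x
      refine hcls g hg _ _ ?_
      rw [hes, hes, hsm]) (by
      intro x
      obtain ⟨g, hg, h⟩ := htr (e.symm x)
      refine ⟨g, hg, Subtype.ext ?_⟩
      rw [hsm, he, h, hes]) (fun i j => (B i j : ℚ)) (by
      intro i j
      rw [← Finset.sum_filter, Finset.sum_const, nsmul_eq_mul, mul_one, Finset.filter_filter, ← hB i j]
      congr 1
      refine Finset.card_bij (fun x _ => e.symm x) ?_ ?_ ?_
      · intro x hx
        rw [Finset.mem_filter] at hx ⊢
        refine ⟨Finset.mem_univ _, ?_, hx.2.1⟩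
        rw [hes]
        exact hx.2.2
      · intro x _ z _ h
        exact e.symm.injective h
      · intro k hk
        rw [Finset.mem_filter] at hk
        refine ⟨e k, ?_, e.symm_apply_apply k⟩
        rw [Finset.mem_filter]
        refine ⟨Finset.mem_univ _, ?_, hk.2.1⟩
        rw [e.symm_apply_apply]
        exact hk.2.2) kk (by
      intro j
      rw [← hk j]
      refine Finset.card_bij (fun x _ => e.symm x) ?_ ?_ ?_
      · intro x hx
        rw [Finset.mem_filter] at hx ⊢
        exact ⟨Finset.mem_univ _, hx.2⟩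
      · intro x _ z _ h
        exact e.symm.injective h
      · intro k hk
        rw [Finset.mem_filter] at hk
        refine ⟨e k, ?_, e.symm_apply_apply k⟩
        rw [Finset.mem_filter]
        refine ⟨Finset.mem_univ _, ?_⟩
        rw [e.symm_apply_apply]
        exact hk.2) c (by
      rw [e.symm_apply_apply]
      exact hc) a t L d M hcard ha hBa hL hd (fun x z => Ω x.1 z.1) (fun g x z => hΩ g x.1 z.1)
    (fun x z => hΩs x.1 z.1) (fun i => hΩa i)
  refine ⟨χ, h1, h2, fun g => ?_⟩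
  rw [h3 g, ← Equiv.sum_comp e]
  rfl

end index

section tables

open Cfsg.Agent.SporadicA.PermTab Cfsg.Agent.H678.DG.Blk Equiv

variable {N M : ℕ} {G : Subgroup (Perm (Fin N))}

theorem isz_comm (f f' : Y N) : isz f f' = isz f' f := by
  unfold isz
  congr 1
  ext i
  simp only [Finset.mem_filter, Finset.mem_univ, true_and]
  exact and_comm

/-- **Characters from tables, with values.** -/
theorem of_tables {n s : ℕ} {mk : ℕ → ℕ} {GT : Set (Perm (Fin N))} (hG : G = Subgroup.closure GT)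
    {PQ : List (ℕ × ℕ)} (hGT : ∀ g ∈ GT, ∃ pq ∈ PQ, ∀ i : Fin N, ((g i : Fin N) : ℕ) = lk pq.1 i)
    (hin : ∀ pq ∈ PQ, InG G pq.1) {bs : List ℕ} {KW : List (List (ℕ × ℕ))} (hKW : ∀ w ∈ KW, ∀ pq ∈ w, pq ∈ PQ)
    {pr : ℕ → ℕ} {kk : ℕ → ℕ} {B : ℕ → ℕ → ℕ} (hM : 0 < M) (hlab0 : lab bs 0 = 0)
    (h1 : allL (chkPQ N M mk) PQ = true) (h2 : chkInj M N mk = true) (h3 : allL (chkW M bs) KW = true)
    (h4 : chkF M bs PQ KW pr = true) (h5 : chkK M n bs kk = true) (h6 : chkB N M n s mk bs B = true)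
    (hn : 0 < n) (a : Fin n → ℚ) (t : ℚ) (L : Fin n → Fin n → ℚ) (d : ℕ)
    (ha : a ⟨0, hn⟩ = 1) (hBa : ∀ i : Fin n, ∑ j : Fin n, (B i j : ℚ) * a j = t * a i)
    (hL : ∀ i j : Fin n, ∑ l : Fin n, L i l * ((B l j : ℚ) - if l = j then t else 0) =
      (if i = j then 1 else 0) - if j = ⟨0, hn⟩ then a i else 0)
    (hd : (d : ℚ) * ∑ j : Fin n, (kk j : ℚ) * (a j * a j) = M)
    (ω : ℕ → ℚ) (hω : ∀ i : Fin n, ω (isz (Fm N mk 0) (Fm N mk (rt bs i))) = a i) :
    ∃ χ : G → ℂ, IsIrrCharacter G χ ∧ χ 1 = d ∧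
      ∀ g : G, χ g = (((d : ℚ) / M * ∑ i : Fin M, ω (isz (Fm N mk i) (g⁻¹ • Fm N mk i)) : ℚ) : ℂ) := by
  classical
  set F := Fm N mk with hF
  have hinj := inj_of_chk (N := N) h2
  have hPQ : ∀ pq ∈ PQ, Cor G F M (lk pq.2) := by
    intro pq hpq
    obtain ⟨g, hg, hgi⟩ := hin pq hpq
    exact ⟨⟨g, hg⟩, cor_of_chkPQ ((allL_iff _ _).1 h1 pq hpq) ⟨g, hg⟩ hgi⟩
  have hcl : ∀ g : G, ∀ x < M, ∃ y < M, g • F x = F y := closed hG (by
    intro g hgT hg x hx
    obtain ⟨pq, hpq, hgi⟩ := hGT g hgT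
    obtain ⟨h7, h8⟩ := cor_of_chkPQ ((allL_iff _ _).1 h1 pq hpq) (⟨g, hg⟩ : G) hgi x hx
    exact ⟨_, h7, h8⟩) hinj
  have hword : ∀ w ∈ KW, Cor G F M (ev (snds w)) := by
    intro w hw
    refine Cor.ev fun Q hQ => ?_
    obtain ⟨P, hP⟩ := mem_snds hQ
    exact hPQ _ (hKW w hw _ hP)
  let K := KK hcl hinj (lab bs)
  have hwK : ∀ w ∈ KW, ∃ g ∈ K, ∀ x < M, ev (snds w) x < M ∧ g • F x = F (ev (snds w) x) := by
    intro w hw
    obtain ⟨g, hg⟩ := hword w hw
    have h7 := (allL_iff _ _).1 h3 w hw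
    unfold chkW at h7
    rw [band_eq_true] at h7
    have h8 : ev (snds w) 0 = 0 := Nat.eq_of_beq_eq_true h7.1
    refine ⟨g, ⟨?_, ?_⟩, hg⟩
    · have h9 := (hg 0 hM).2
      rwa [h8] at h9
    · intro x hx y hy hxy
      have h9 := hg x hx
      rw [h9.2] at hxy
      rw [← hinj _ h9.1 _ hy hxy]
      exact Nat.eq_of_beq_eq_true ((allB_iff _ _).1 h7.2 x hx)
  unfold chkF at h4
  rw [allB_iff] at h4
  have hreachG : ∀ x, x < M → ∃ g : G, g • F 0 = F x := by
    intro x
    induction x using Nat.strong_induction_on with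
    | _ x ih =>
      intro hx
      have h7 := h4 x hx
      rw [bor_iff, forceB_eq, band_eq_true, bor_iff, band_eq_true, band_eq_true, anyB_iff, anyB_iff] at h7
      rcases h7 with h7 | ⟨h7, h8⟩
      · rw [Nat.eq_of_beq_eq_true h7]
        exact ⟨1, one_smul _ _⟩
      · have h9 : pr x < x := Nat.blt_eq ▸ h7
        obtain ⟨g, hg⟩ := ih _ h9 (h9.trans hx)
        rcases h8 with ⟨-, w, hw, h8⟩ | ⟨-, pq, hpq, h8⟩
        · obtain ⟨k, -, hk⟩ := hwK w hw
          refine ⟨k * g, ?_⟩
          rw [mul_smul, hg, (hk _ (h9.trans hx)).2, Nat.eq_of_beq_eq_true h8]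
        · obtain ⟨k, hk⟩ := hPQ pq hpq
          refine ⟨k * g, ?_⟩
          rw [mul_smul, hg, (hk _ (h9.trans hx)).2, Nat.eq_of_beq_eq_true h8]
  have hreachK : ∀ x, x < M → ∃ g ∈ K, g • F (rt bs (lab bs x)) = F x := by
    intro x
    induction x using Nat.strong_induction_on with
    | _ x ih =>
      intro hx
      have h7 := h4 x hx
      rw [bor_iff, forceB_eq, band_eq_true, bor_iff, band_eq_true, band_eq_true, anyB_iff, anyB_iff] at h7
      rcases h7 with h7 | ⟨h7, h8⟩
      · rw [Nat.eq_of_beq_eq_true h7, hlab0]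
        exact ⟨1, K.one_mem, one_smul _ _⟩
      · have h9 : pr x < x := Nat.blt_eq ▸ h7
        rcases h8 with ⟨h10, w, hw, h8⟩ | ⟨h10, -⟩
        · obtain ⟨g, hg, hgx⟩ := ih _ h9 (h9.trans hx)
          obtain ⟨k, hkK, hk⟩ := hwK w hw
          refine ⟨k * g, K.mul_mem hkK hg, ?_⟩
          rw [← Nat.eq_of_beq_eq_true h10, mul_smul, hgx, (hk _ (h9.trans hx)).2, Nat.eq_of_beq_eq_true h8]
        · rw [Nat.eq_of_beq_eq_true h10]
          exact ⟨1, K.one_mem, one_smul _ _⟩
  unfold chkK at h5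
  rw [band_eq_true, band_eq_true, allB_iff, allB_iff, allB_iff] at h5
  obtain ⟨h5a, h5b, h5c⟩ := h5
  have hlt : ∀ x < M, lab bs x < n := fun x hx => Nat.blt_eq ▸ h5a x hx
  have hrt : ∀ j < n, rt bs j < M := fun j hj => Nat.blt_eq ▸ h5b j hj
  refine of_index (G := G) (Y := Y N) (M := M) (n := n) (fun x => F x) ?_ ⟨0, hM⟩ ?_ ?_ K ?_
    (fun x => ⟨lab bs x, hlt x x.2⟩) (fun j => ⟨rt bs j, hrt j j.2⟩) ?_ ?_
    (fun f f' => Nat.beq (isz f f') s) ?_ (fun i j => B i j) ?_ (fun j => kk j) ?_ ⟨0, hn⟩ ?_ a t L d ha hBa hL hd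
    (fun f f' => ω (isz f f')) ?_ ?_ ?_
  · intro x y hxy
    exact Fin.ext (hinj x x.2 y y.2 hxy)
  · intro g x
    obtain ⟨y, hy, h⟩ := hcl g x x.2
    exact ⟨⟨y, hy⟩, h⟩
  · intro x
    exact hreachG x x.2
  · intro g hg
    exact hg.1
  · intro g hg x y hxy
    exact Fin.ext (hg.2 x x.2 y y.2 hxy)
  · intro x
    exact hreachK x x.2
  · intro g f f'
    show Nat.beq (isz (g • f) (g • f')) s = Nat.beq (isz f f') s
    rw [isz_smul]
  · intro i j
    unfold chkB at h6
    rw [allB_iff] at h6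
    have h7 := h6 i i.2
    rw [forceB_eq, allB_iff] at h7
    have h8 := (cntB_iff _ _ _).1 (h7 j j.2)
    rw [← card_fin] at h8
    rw [← h8]
    congr 1
    ext y
    simp only [Finset.mem_filter, Finset.mem_univ, true_and]
    rw [band_eq_true, forceB_eq, ← isz_eq]
    constructor
    · rintro ⟨h9, h10⟩
      refine ⟨?_, h9⟩
      have h11 : lab bs y = j := congrArg Fin.val h10
      rw [h11]
      exact Nat.beq_refl _
    · rintro ⟨h9, h10⟩
      exact ⟨h10, Fin.ext (Nat.eq_of_beq_eq_true h9)⟩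
  · intro j
    have h8 := (cntB_iff _ _ _).1 (h5c j j.2)
    rw [← card_fin] at h8
    rw [← h8]
    congr 1
    ext y
    simp only [Finset.mem_filter, Finset.mem_univ, true_and]
    constructor
    · intro h
      have h11 : lab bs y = j := congrArg Fin.val h
      rw [h11]
      exact Nat.beq_refl _
    · intro h
      exact Fin.ext (Nat.eq_of_beq_eq_true h)
  · exact Fin.ext hlab0
  · intro g f f'
    show ω (isz (g • f) (g • f')) = ω (isz f f')
    rw [isz_smul]
  · intro f f'
    show ω (isz f f') = ω (isz f' f)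
    rw [isz_comm]
  · intro i
    exact hω i

end tables

end Cfsg.Agent.H300.K4.Val
end
end
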