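import Cfsg.Agent.H904.McLCent
import Cfsg.Agent.H678.DG.McLData
import Cfsg.Agent.H678.DG.PairRep_m3
import Cfsg.Agent.Prune
set_option linter.all false
prune_inst 0x7f00000000000000000000000000000000000000000000000000000000000000000000000000000000000000000000000000000000000000000000000000000000000000000000000000000000000000003fffffffffffffffffffffffffffbeffbdffffffff
open scoped Cfsg.Agent.FastGrp

/-!
# The McLaughlin group has irreducible characters of degrees 3520, 4500, 5103 (helper678)
-/

set_option autoImplicit false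
set_option maxRecDepth 100000

namespace Cfsg.Agent.H678.DG.McLDeg

open Cfsg Equiv Cfsg.Agent.SporadicA.PermTab Cfsg.Agent.H904.McLCent Cfsg.Agent.McLType.X275 Cfsg.Agent.McLType.Gens Cfsg.Agent.H678.DG.Blk Cfsg.Agent.H678.DG.Pts Cfsg.Agent.H678.DG.PairRep Cfsg.Agent.H678.DG.McLData

/-- block `q` of width `w` -/
private def bk (t w q : ℕ) : ℕ := Nat.land (Nat.shiftRight t (Nat.mul w q)) (Nat.sub (Nat.pow 2 w) 1)

/-- first points -/
private def fa (k : ℕ) : ℕ := Nat.rec 0 (fun q _ => lk (bk ta 352 q) (Nat.mod k 32)) (Nat.succ (Nat.div k 32))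

/-- second points -/
private def fb (k : ℕ) : ℕ := Nat.rec 0 (fun q _ => lk (bk tb 352 q) (Nat.mod k 32)) (Nat.succ (Nat.div k 32))

/-- the number of a pair -/
private def fx (i j : ℕ) : ℕ := Nat.land (Nat.shiftRight (bk ixt 3850 i) (Nat.mul 14 j)) 16383

/-- the parents -/
private def fp (k : ℕ) : ℕ := Nat.rec 0 (fun q _ => Nat.land (Nat.shiftRight (bk prt 448 q) (Nat.mul 14 (Nat.mod k 32))) 16383)
  (Nat.succ (Nat.div k 32))

/-- adjacent vertices -/
private def fR (i j : ℕ) : Bool := Blk.tb (rowM 275 adjM i) j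

/-- the label as a code with one bit for each smaller label -/
private def th (z : ℕ) : ℕ := Nat.land (Nat.add (Nat.mul z 0x100010001000100010001000100010001) 0x43f64a4a58876f4f75a37bf77c337f5d7fff)
  0x800080008000800080008000800080008000

private theorem hfR : ∀ g ∈ K0, ∀ i j : Fin 275, fR (g i) (g j) = fR i j := by
  intro g hg i j
  show Blk.tb _ _ = Blk.tb _ _
  rw [tb_eq, tb_eq, testBit_rowM, testBit_rowM, (bitM_eq_iff _ _ _ _ _ _).1 (K0_le hg i j), decide_eq_true (g j).2,
    decide_eq_true j.2]

theorem word_of {L : List ℕ} {S : ℕ} (hL : L ⊆ e7) (hS : chkWord 275 S L = true) : InG K0 S :=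
  InG.word (fun P hP => inAll P (hL hP)) hS

theorem card_K0 : Nat.card K0 = 898128000 := by
  rw [← range_ψ, ← Nat.card_congr (MonoidHom.ofInjective ψ_injective).toEquiv, card_G1]

/-- the permutations -/
def T (x : Fin 11) : ℕ := [T0, T1, T2, T3, T4, T5, T6, T7, T8, T9, T10].getD x 0

theorem in0 : InG K0 T0 := word_of (L := [e_y, e_w, e_x, e_y]) (by simp [e7]) (by decide +kernel)

theorem in1 : InG K0 T1 := word_of (L := [e_a, e_b, e_w, e_g, e_x, e_g]) (by simp [e7]) (by decide +kernel)

theorem in2 : InG K0 T2 := word_of (L := [e_a]) (by simp [e7]) (by decide +kernel)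

theorem in3 : InG K0 T3 := word_of (L := [e_y]) (by simp [e7]) (by decide +kernel)

theorem in4 : InG K0 T4 := word_of (L := [e_a, e_b]) (by simp [e7]) (by decide +kernel)

theorem in5 : InG K0 T5 := word_of (L := [e_b, e_y]) (by simp [e7]) (by decide +kernel)

theorem in6 : InG K0 T6 := word_of (L := [e_y, e_b]) (by simp [e7]) (by decide +kernel)

theorem in7 : InG K0 T7 := word_of (L := [e_y, e_g]) (by simp [e7]) (by decide +kernel)

theorem in8 : InG K0 T8 := word_of (L := [e_b, e_y, e_b]) (by simp [e7]) (by decide +kernel)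

theorem in9 : InG K0 T9 := word_of (L := [e_a, e_b, e_x, e_y, e_b]) (by simp [e7]) (by decide +kernel)

theorem in10 : InG K0 T10 := word_of (L := [e_a, e_y, e_x, e_y, e_w, e_c, e_y]) (by simp [e7]) (by decide +kernel)

theorem hT (x : Fin 11) : InG K0 (T x) := by
  fin_cases x
  exacts [in0, in1, in2, in3, in4, in5, in6, in7, in8, in9, in10]

/-- the roots -/
def bs : List ℕ := [1, 163, 973, 1033, 2653, 4273, 10105, 13750, 15370]

/-- words of the stabiliser -/
def KW : List (List (Fin 11)) := [[0], [1]]

/-- sizes -/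
def kk (j : ℕ) : ℕ := [1, 162, 810, 60, 1620, 1620, 5832, 3645, 1620, 30].getD j 0

/-- the permutations mapping the first pair to the roots -/ def gam (j : ℕ) : List (Fin 11) := [[], [2], [3], [4],
    [5], [6], [7], [8], [9], [10]].getD j []

/-- the collapsed matrix -/ def B (i j : ℕ) : ℕ := ([[0, 0, 0, 0, 0, 0, 0, 3645, 0, 0], [0, 45, 0, 0, 540, 0, 1080,
    1620, 360, 0], [0, 0, 90, 0, 288, 558, 1152, 1044, 504, 9], [0, 0, 0, 0, 972, 0, 1458, 972, 243, 0], [0, 54, 144,
    36, 531, 396, 1476, 720, 288, 0], [0, 0, 279, 0, 396, 369, 1476, 720, 396, 9], [0, 30, 160, 15, 410, 410, 1295,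
    860, 455, 10], [1, 72, 232, 16, 320, 320, 1376, 932, 368, 8], [0, 36, 252, 9, 288, 396, 1638, 828, 198, 0], [0,
    0, 243, 0, 0, 486, 1944, 972, 0, 0]].getD i []).getD j 0

private theorem big : band (fqAll 275 15400 10 fR fa fb fp th fx bs kk (T 0) (T 1))
    (allB (fun i => fqRow fa fb th fx T (rt bs 7) (kk 7) (rt bs i) (row (B i) 10) (gam i)) 10) = true := by decide +kernel

private theorem out : FqOut 275 15400 10 fR fa fb fp th fx bs kk (T 0) (T 1) :=
  fqOut (by norm_num) ((band_eq_true _ _).1 big).1

private theorem fdat : Data 275 15400 fR fa fb fx :=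
  Data.of_count (d := 112) out.pts (fun i hi => card_tb (Nat.and_lt_two_pow _ (by decide +kernel)) (by norm_num)
    ((allB_iff (fun i => fqz (rowM 275 adjM i) fun x => Nat.beq (Nat.add (pcHun x) (Nat.add (pcHun (Nat.shiftRight x 100))
      (pcHun (Nat.shiftRight x 200)))) 112) 275).1 (by decide +kernel) i hi)) rfl

theorem hdiv : ∀ J : Finset (Fin 10), 7 ∈ J → (∑ j ∈ J, kk j) ∣ 58320 → J = {7} :=
  hdiv_of_sub (c := 7) (by norm_num) (by decide +kernel) (by decide +kernel)

/-- The degree for an eigenvalue. -/
theorem deg (a : Fin 10 → ℚ) (t : ℚ) (L : Fin 10 → Fin 10 → ℚ) (d : ℕ)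
    (ha : a 0 = 1) (hBa : ∀ i : Fin 10, ∑ j : Fin 10, (B i j : ℚ) * a j = t * a i)
    (hL : ∀ i j : Fin 10, ∑ l : Fin 10, L i l * ((B l j : ℚ) - if l = j then t else 0) =
      (if i = j then 1 else 0) - if j = 0 then a i else 0)
    (hd : (d : ℚ) * ∑ j : Fin 10, (kk j : ℚ) * (a j * a j) = (15400 : ℕ)) :
    ∃ χ : IrrCharacter K0, charDegree (χ : K0 → ℂ) = d :=
  deg_of_pairs fdat hfR T hT (KW := KW) (bs := bs) (pr := fp) (kk := kk) (γ := gam) (c₁ := 7) (B := B) (st := 58320)
    (by rw [card_K0]) (by norm_num) (by norm_num) (by decide +kernel) (by norm_num) (by norm_num)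
    (by decide +kernel) (out.chkW (by decide +kernel)) out.chkF out.chkK
    (out.chkB fdat hfR hT (by norm_num) ((band_eq_true _ _).1 big).2) hdiv a t L d ha hBa hL hd

theorem deg_3520 : ∃ χ : IrrCharacter K0, charDegree (χ : K0 → ℂ) = 3520 :=
    deg ![1, 1/18, -1/45, -11/60, 1/180, 1/180, 1/216, -1/135, 0, 1/30] (-27) ![![0, 0, 0, 0, 0, 0, 0, 0, 0, 0],
    ![-95/15552, -1/48, 7/96, 1/32, -1/96, -17/864, -13/96, 7/64, -1/48, 0], ![467/330480, 13/2448, -35/2448,
    -193/22032, 65/7344, 11/816, 11/816, -13/816, -1/306, 0], ![15083/881280, 31/544, -3533/16320, -13973/146880,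
    273/5440, 547/16320, 2109/5440, -3033/10880, 123/2720, 0], ![-2929/2643840, -3/544, 529/29376, 245/29376,
    -5/9792, -5/9792, -115/3264, 53/2176, -37/4896, 0], ![-3337/2643840, -115/14688, 377/16320, 4151/440640,
    -31/16320, -229/48960, -643/16320, 931/32640, -419/73440, 0], ![-229/3172608, 5/29376, -125/58752, 5/176256,
    -125/58752, -125/58752, 13/2176, -35/13056, 95/29376, 0], ![1/3645, 0, 0, 0, 0, 0, 0, 0, 0, 0], ![137/73440,
    1/68, -431/12240, -173/9180, 113/12240, 407/36720, 253/4080, -137/2720, 71/12240, 0], ![-2795/88128, -103/408,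
    1449/2720, 23107/73440, -1841/8160, -591/2720, -2291/2720, 4477/5440, -137/1360, 0]] 3520 (by decide +kernel)
    (by decide +kernel) (by decide +kernel) (by decide +kernel)

theorem deg_4500 : ∃ χ : IrrCharacter K0, charDegree (χ : K0 → ℂ) = 4500 :=
    deg ![1, -1/27, -1/90, 1/15, -1/90, -1/90, 1/162, -1/405, 2/135, -1/6] (-9) ![![0, 0, 0, 0, 0, 0, 0, 0, 0, 0],
    ![-11189/7286598, -133/14993, 445/16356, 2725/269874, 200/44979, -265/59972, -1835/29986, 1525/29986, -200/12267,
    0], ![23711/48577320, -113/449790, 1351/490680, -289/224895, 6307/899580, 6863/599720, -5443/299860, 4029/599720,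
    -691/81780, 0], ![31963/8096220, 1209/59972, -108/1363, -32849/1079496, 327/59972, -315/29986, 9747/59972,
    -6129/59972, 333/10904, 0], ![5441/48577320, -897/299860, 1127/163560, 8857/2698740, 2374/674685, 1933/599720,
    -5153/299860, 6059/599720, -91/13630, 0], ![13753/97154640, -304/74965, 241/27260, 2527/899580, 807/299860,
    883/2698740, -2417/149930, 11799/1199440, -343/81780, 0], ![-30277/174878352, 118/134937, -167/49068,
    -521/1079496, -1499/539748, -1499/539748, 555/59972, -1107/239888, 143/32712, 0], ![1/3645, 0, 0, 0, 0, 0, 0, 0,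
    0, 0], ![-95141/145731960, 16117/2698740, -86/20445, -191/38280, 2147/899580, 1871/449790, 2157/299860,
    -5361/599720, -107/163560, 0], ![7421/809622, -8677/89958, -181/10904, 20549/269874, -8081/59972, -15205/119944,
    9697/59972, 1262/14993, 715/16356, 0]] 4500 (by decide +kernel) (by decide +kernel) (by decide +kernel)
    (by decide +kernel)

theorem deg_5103 : ∃ χ : IrrCharacter K0, charDegree (χ : K0 → ℂ) = 5103 :=
    deg ![1, -1/27, 1/405, 1/15, 1/405, 1/405, -1/729, 13/3645, -1/81, 1/5] 13 ![![0, 0, 0, 0, 0, 0, 0, 0, 0, 0],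
    ![4549559/16191347040, -3626911/419775664, 912591/47701780, 3490119/524719580, 10949319/1049439160,
    247824/131179895, -13503717/262359790, 24400881/599679520, -46899/2510620, 0], ![120826699/97148082240,
    -3147129/839551328, 759919/95403560, 1574637/2098878320, 22916121/2098878320, 1992678/131179895,
    -33371871/1049439160, 16430559/1199359040, -140037/10042480, 0], ![-1589309/2248798200, 40224033/2098878320,
    -13940181/238508900, -414452957/20988783200, -8685063/655899475, -150181047/5247195800, 1459192401/10494391600,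
    -56860299/749599400, 3882897/100424800, 0], ![3396365/4857404112, -685143/209887832, 208461/47701780,
    1265169/524719580, 1389611/262359790, 2447121/524719580, -7045359/524719580, 1985133/299839760, -8907/1255310,
    0], ![328107851/485740411200, -16691769/4197756640, 3080913/477017800, 18329259/10494391600,
    47946117/10494391600, 6921989/2623597900, -69457287/5247195800, 37852383/5996795200, -246639/50212400, 0],
    ![-47321603/87433274016, 197305/104943916, -235675/57242136, -1996255/2518653984, -1366625/314831748,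
    -1366625/314831748, 193579/15940848, -2038045/359807712, 72895/12050976, 0], ![1/3645, 0, 0, 0, 0, 0, 0, 0, 0,
    0], ![-83143261/121435102800, 5881023/2098878320, 244221/59627225, -38413077/20988783200, 5444139/1311798950,
    30743283/5247195800, -122944539/10494391600, 5164647/1499198800, -586783/100424800, 0], ![16179641/17990385600,
    -8695399/599679520, -40823201/204436200, 54323057/4497596400, -1002729859/4497596400, -121017989/562199550,
    1403468449/2248798200, -3387741787/17990385600, 4386703/21519600, 0]] 5103 (by decide +kernel)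
    (by decide +kernel) (by decide +kernel) (by decide +kernel)

end Cfsg.Agent.H678.DG.McLDeg
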