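import Cfsg.Agent.S4696
import Cfsg.Agent.S0952
import Cfsg.Agent.H870.IMLocal
import Cfsg.Agent.H649.PairInduced
import Cfsg.Agent.H658.CyclicRoot
import Cfsg.Agent.Prune
set_option linter.all false
prune_inst 0x7f00000000000000000000000000000000000000000000000000000000000000000000000000000000000000000000000000000000000000000000000000000000000000000000000000000000000000003fffffffffffffffffffffffffffbeffbdffffffff
open scoped Cfsg.Agent.FastGrp

/-!
# The sign relation of a block with a defect group of order `p` (helper678)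

`exists_rel` : `D = ⟨x⟩` of order `p`, `θ` a character of `C(D)` of defect zero modulo `D`, and an element `t` of
`N(D)` outside `C(D)` acting on the `p`-regular classes of `C(D)` trivially: the block `B` of `G` with defect group `D`
induced by the block of `θ` contains `e + 1` characters, `1 < e ∣ p - 1`, linked by a sign relation on `p`-regular elements.
-/

set_option autoImplicit false

namespace Cfsg.Agent.H678.DG

open Cfsg Subgroup
open Cfsg.Agent.Characters.Core Cfsg.Agent.Blocks.Basic Cfsg.Agent.Blocks.Local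
open scoped ComplexConjugate

universe u

variable {G : Type u} [Group G] [Finite G] {p : ℕ} [hp : Fact p.Prime] {M : Ideal AlgInt}

/-- Irreducible characters which agree on `p`-regular elements lie in the same block. -/
theorem sameBlock_of_eq_reg (hM : IsPModular p M) {θ θ' : IrrCharacter G}
    (h : ∀ g : G, ¬ p ∣ orderOf g → (θ' : G → ℂ) g = (θ : G → ℂ) g) : SameBlock M (θ : G → ℂ) (θ' : G → ℂ) := by
  classical
  by_contra hcon
  have h1 := S0952.result p M hM θ θ' hcon
  have hfin : {x : G | ¬ p ∣ orderOf x}.Finite := Set.toFinite _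
  rw [finsum_mem_eq_finite_toFinset_sum _ hfin] at h1
  have h2 : ∑ x ∈ hfin.toFinset, ((Complex.normSq ((θ : G → ℂ) x) : ℝ) : ℂ) = 0 := by
    rw [← h1]
    refine Finset.sum_congr rfl fun x hx => ?_
    rw [h x (hfin.mem_toFinset.1 hx), Complex.mul_conj]
  rw [← Complex.ofReal_sum, Complex.ofReal_eq_zero] at h2
  have h3 := (Finset.sum_eq_zero_iff_of_nonneg (fun x _ => Complex.normSq_nonneg _)).1 h2 1 (by
    rw [hfin.mem_toFinset]
    show ¬ p ∣ orderOf (1 : G)
    rw [orderOf_one, Nat.dvd_one]
    exact hp.out.ne_one)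
  rw [Complex.normSq_eq_zero] at h3
  obtain ⟨n, hn, h4⟩ := isIrr_apply_one θ.2
  rw [h4] at h3
  exact hn.ne' (by exact_mod_cast h3)

/-- **The sign relation.** -/
theorem exists_rel (hM : IsPModular p M) {x : G} (hx : orderOf x = p) {D : Subgroup G} (hD : D = zpowers x)
    (θ : IrrCharacter (centralizer (D : Set G)))
    (hdeg : (Nat.card (centralizer (D : Set G))).factorization p ≤
      (charDegree (θ : centralizer (D : Set G) → ℂ)).factorization p + 1)
    (t : G) (ht : t ∈ normalizer (D : Set G)) (htC : t ∉ centralizer (D : Set G))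
    (hreg : ∀ c : centralizer (D : Set G), ¬ p ∣ orderOf c →
      ∃ d : centralizer (D : Set G), t * c * t⁻¹ = ((d * c * d⁻¹ : centralizer (D : Set G)) : G)) :
    ∃ (B : Set (IrrCharacter G)) (F : Finset (IrrCharacter G)) (δ : IrrCharacter G → ℤ) (e : ℕ),
      IsInducedBlock M (centralizer (D : Set G)) (blockOf M (θ : centralizer (D : Set G) → ℂ)) B ∧
      IsDefectGroup p M B D ∧ (∀ χ ∈ F, χ ∈ B) ∧ F.card = e + 1 ∧ e ∣ p - 1 ∧ e ≠ 1 ∧
      (∀ χ ∈ F, δ χ = 1 ∨ δ χ = -1) ∧
      ∀ g : G, ¬ p ∣ orderOf g → ∑ χ ∈ F, (δ χ : ℂ) * (χ : G → ℂ) g = 0 := by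
  classical
  have : M.IsPrime := isPrime_of_isPModular hM
  have hcard : Nat.card D = p := by rw [hD, Nat.card_zpowers, hx]
  have hDp : IsPGroup p D := IsPGroup.iff_card.2 ⟨1, by rw [hcard, pow_one]⟩
  have hDC : D ≤ centralizer (D : Set G) := by
    rw [hD, ← H870.IMLocal.centralizer_zpowers, zpowers_le, mem_centralizer_singleton_iff]
  have hcyc : IsCyclic D := isCyclic_of_prime_card hcard
  set b : Set (IrrCharacter (centralizer (D : Set G))) := blockOf M (θ : centralizer (D : Set G) → ℂ) with hb
  have hbB : IsPBlock M b := ⟨θ, rfl⟩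
  have hθb : θ ∈ b := mem_blockOf_self θ
  have hDone : (Nat.card ↥(D ⊓ centralizer (D : Set G))).factorization p = 1 := by
    rw [inf_eq_left.2 hDC, hcard, hp.out.factorization_self]
  -- the degree of `θ` is exact
  have hrev : (charDegree (θ : centralizer (D : Set G) → ℂ)).factorization p +
      (Nat.card ↥(D ⊓ centralizer (D : Set G))).factorization p ≤
      (Nat.card (centralizer (D : Set G))).factorization p := by
    obtain ⟨d, ρ, hρ, hχ⟩ := θ.2
    have hZ : D.subgroupOf (centralizer (D : Set G)) ≤ center (centralizer (D : Set G)) :=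
      H686.PairCrit.subgroupOf_le_center D
    have hn : (D.subgroupOf (centralizer (D : Set G))).Normal := by
      constructor
      intro x hx g
      have h1 := mem_center_iff.1 (hZ hx) g
      rw [h1, mul_inv_cancel_right]
      exact hx
    have hdvd := S0169.result ρ (D.subgroupOf (centralizer (D : Set G)))
      (fun a ha b _ => ((mem_center_iff.1 (hZ ha)) b).symm)
    have h2 : charDegree (θ : centralizer (D : Set G) → ℂ) = d := by
      apply H670.PSing.charDegree_eq_of
      rw [← hχ, Representation.char_one]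
      simp
    rw [Module.finrank_fin_fun, ← h2] at hdvd
    have h3 := (Nat.factorization_le_iff_dvd
      (charDegree_pos θ.2).ne' index_ne_zero_of_finite).2 hdvd p
    have h4 : Nat.card (D.subgroupOf (centralizer (D : Set G))) =
        Nat.card ↥(D ⊓ centralizer (D : Set G)) := by
      have h5 : Nat.card ((D.subgroupOf (centralizer (D : Set G))).map
          (centralizer (D : Set G)).subtype) =
          Nat.card (D.subgroupOf (centralizer (D : Set G))) :=
        card_map_of_injective (subtype_injective _)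
      rw [subgroupOf_map_subtype] at h5
      exact h5.symm
    have h6 := (D.subgroupOf (centralizer (D : Set G))).card_mul_index
    rw [← h6, h4, Nat.factorization_mul Nat.card_pos.ne' index_ne_zero_of_finite,
      Finsupp.add_apply]
    omega
  obtain ⟨B, hB⟩ := H686.PairCrit.crit_mpr hM (Q := D) (e := b) ⟨hDp, hbB⟩ hθb
    (le_antisymm hrev (by rw [hDone]; exact hdeg)) (fun g hg _ hk => by
      subst hD
      exact mem_sup_right (H870.IMLocal.mem_centralizer_of_normalizer hx hg hk))
  have hdef := H644.isDefectGroup_of_isMaximalBrauerPair hM hB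
  have hBb : IsPBlock M B := hB.1.2.1
  have hind : IsInducedBlock M (centralizer (D : Set G)) b B :=
    (H649.isBrauerPairOf_iff_isInducedBlock hM hBb hDp hbB).1 hB.1
  obtain ⟨T, hT⟩ := H658.exists_stabilizer hM D hbB
  obtain ⟨h1, -, X, Y, h3, h4, h5, h6, -, δ, δ₀, h7, h8, h9, -, -⟩ :=
    S4696.result p M hM D hcyc 1 le_rfl (by rw [hcard, pow_one]) B hBb hdef b hind T hT _ rfl
  set e := (centralizer (D : Set G)).relIndex T with he
  have hp1 : 0 < p - 1 := by have := hp.out.one_lt; omega
  have he0 : 0 < e := Nat.pos_of_dvd_of_pos h1 hp1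
  have he1 : e ≠ 1 := by
    intro h
    rw [he, relIndex_eq_one] at h
    apply htC
    apply h
    rw [hT]
    refine ⟨ht, fun θ₁ hθ₁ θ' hθ' => ?_⟩
    have e1 : SameBlock M (θ₁ : centralizer (D : Set G) → ℂ) (θ' : centralizer (D : Set G) → ℂ) := by
      refine sameBlock_of_eq_reg hM fun c hc => ?_
      obtain ⟨d, hd⟩ := hreg c hc
      rw [← hθ' c (d * c * d⁻¹) hd.symm]
      exact (isIrr_isClassFunction θ'.2 c d).symm
    rw [isPBlock_eq_blockOf hbB hθ₁]
    exact e1
  -- a member of `Y`
  have hYpos : 0 < Nat.card Y := by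
    rw [h6, pow_one]
    exact Nat.div_pos (Nat.le_of_dvd hp1 h1) he0
  have hYne : Nonempty Y := (Nat.card_pos_iff.1 hYpos).1
  obtain ⟨ψ, hψ⟩ := hYne
  have : Finite (IrrCharacter G) := finite_irr
  have hXfin : X.Finite := Set.toFinite X
  have hψX : ψ ∉ X := fun h => Set.disjoint_left.1 h4 h hψ
  refine ⟨B, insert ψ hXfin.toFinset, fun χ => if χ = ψ then δ₀ else δ χ, e, hind, hdef, ?_, ?_, h1, he1, ?_, ?_⟩
  · intro χ hχ
    rw [h3]
    rcases Finset.mem_insert.1 hχ with rfl | h
    · exact Or.inr hψ
    · exact Or.inl (hXfin.mem_toFinset.1 h)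
  · rw [Finset.card_insert_of_notMem (by rw [hXfin.mem_toFinset]; exact hψX), ← h5,
      Nat.card_coe_set_eq, Set.ncard_eq_toFinset_card X hXfin]
  · intro χ hχ
    by_cases h : χ = ψ
    · simp only [if_pos h]
      exact h8
    · simp only [if_neg h]
      exact h7 χ (hXfin.mem_toFinset.1 ((Finset.mem_insert.1 hχ).resolve_left h))
  · intro g hg
    have h10 := h9 ψ hψ g hg
    rw [finsum_mem_eq_finite_toFinset_sum _ hXfin] at h10
    rw [Finset.sum_insert (by rw [hXfin.mem_toFinset]; exact hψX), ← h10]
    simp only [if_true]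
    congr 1
    refine Finset.sum_congr rfl fun χ hχ => ?_
    rw [if_neg]
    rintro rfl
    exact hψX (hXfin.mem_toFinset.1 hχ)

end Cfsg.Agent.H678.DG
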