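import Cfsg.Agent.H113.PSU.Rank3_m3
import Cfsg.Agent.H641.Gow.Real_m3
import Cfsg.Agent.H52.GowFi23
import Cfsg.Agent.H672.SporIM.RankRows
import Cfsg.Agent.Prune
set_option linter.all false
prune_inst 0x7f00000000000000000000000000000000000000000000000000000000000000000000000000000000000000000000000000000000000000000000000000000000000000000000000000000000000000003fffffffffffffffffffffffffffbeffbdffbfffff
open scoped Cfsg.Agent.FastGrp

-- part: H678/DG/CoverR3
section
/-!
# Rank 3 from at most three orbits of a point stabilizer (helper678)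

* `exists_R3_of_cover` : a transitive action whose point stabilizer `S` has at most three orbits, `|X| - 1 ∤ |S|`,
  `|X| - 1` odd: rank 3 with subdegrees dividing `|S|`.
* `exists_R3_pairs` : the same for the action on the pairs `{p, l p}` of points.
-/

set_option autoImplicit false

namespace Cfsg.Agent.H678.DG

open Cfsg MulAction Cfsg.Agent.H690.Spor.RankThree

theorem exists_R3_of_cover {G X : Type*} [Group G] [Finite G] [MulAction G X] [Finite X] (ht : IsPretransitive G X)
    (a : X) (q : Fin 3 → X) (hq : ∀ x : X, ∃ i, x ∈ orbit (stabilizer G a) (q i)) {n : ℕ} (hn : Nat.card X = n + 1)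
    (hn0 : 0 < n) (hodd : Odd n) (hnd : ¬ n ∣ Nat.card (stabilizer G a)) :
    ∃ (k l : ℕ) (R : X → X → Prop), R3 G X R k l ∧ k + l = n ∧ k ∣ Nat.card (stabilizer G a) ∧
      l ∣ Nat.card (stabilizer G a) := by
  classical
  set S := stabilizer G a with hS
  have horba : ∀ x : X, x ∈ orbit S a → x = a := by
    rintro x ⟨⟨g, hg⟩, rfl⟩
    exact hg
  have horbdvd : ∀ x : X, (orbit S x).ncard ∣ Nat.card S := by
    intro x
    have h1 := Nat.card_congr (orbitEquivQuotientStabilizer S x)
    rw [Nat.card_coe_set_eq] at h1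
    rw [h1]
    exact (stabilizer S x).index_dvd_card
  have haorb : ∀ {x : X}, x ≠ a → a ∉ orbit S x := by
    intro x hx h
    exact hx (horba x ((orbit_eq_iff.2 h) ▸ mem_orbit_self x))
  -- the complement is not one orbit
  have hone : ∀ b : X, b ≠ a → ¬ ∀ x : X, x = a ∨ x ∈ orbit S b := by
    intro b hb hall
    apply hnd
    have h1 : (({a} : Set X) ∪ orbit S b) = Set.univ := by
      rw [Set.eq_univ_iff_forall]
      intro x
      rcases hall x with h | h
      · exact Or.inl h
      · exact Or.inr h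
    have h2 : (({a} : Set X) ∪ orbit S b).ncard = 1 + (orbit S b).ncard := by
      rw [Set.ncard_union_eq, Set.ncard_singleton]
      rw [Set.disjoint_left]
      rintro x hx hx'
      rw [Set.mem_singleton_iff] at hx
      subst hx
      exact haorb hb hx'
    rw [h1, Set.ncard_univ, hn] at h2
    have h3 : (orbit S b).ncard = n := by omega
    rw [← h3]
    exact horbdvd b
  -- two further points
  obtain ⟨i, hi⟩ := hq a
  have hqi : q i = a := by
    by_contra hne
    exact haorb hne hi
  obtain ⟨j, k, hcov⟩ : ∃ j k : Fin 3, ∀ m : Fin 3, m = i ∨ m = j ∨ m = k := by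
    have h3 : ∀ i : Fin 3, ∃ j k : Fin 3, ∀ m : Fin 3, m = i ∨ m = j ∨ m = k := by decide
    exact h3 i
  have hcov' : ∀ x : X, x = a ∨ x ∈ orbit S (q j) ∨ x ∈ orbit S (q k) := by
    intro x
    obtain ⟨m, hm⟩ := hq x
    rcases hcov m with rfl | rfl | rfl
    · rw [hqi] at hm
      exact Or.inl (horba x hm)
    · exact Or.inr (Or.inl hm)
    · exact Or.inr (Or.inr hm)
  have hex : ∃ b c : X, b ≠ a ∧ c ≠ a ∧ ∀ x : X, x = a ∨ x ∈ orbit S b ∨ x ∈ orbit S c := by
    by_cases hj : q j = a
    · by_cases hk : q k = a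
      · exfalso
        have h1 : (Set.univ : Set X).ncard ≤ 1 := by
          rw [Set.ncard_le_one_iff]
          intro x y _ _
          have : ∀ z : X, z = a := by
            intro z
            rcases hcov' z with h | h | h
            · exact h
            · rw [hj] at h; exact horba z h
            · rw [hk] at h; exact horba z h
          rw [this x, this y]
        rw [Set.ncard_univ, hn] at h1
        omega
      · refine absurd (fun x => ?_) (hone (q k) hk)
        rcases hcov' x with h | h | h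
        · exact Or.inl h
        · rw [hj] at h; exact Or.inl (horba x h)
        · exact Or.inr h
    · by_cases hk : q k = a
      · refine absurd (fun x => ?_) (hone (q j) hj)
        rcases hcov' x with h | h | h
        · exact Or.inl h
        · exact Or.inr h
        · rw [hk] at h; exact Or.inl (horba x h)
      · exact ⟨q j, q k, hj, hk, hcov'⟩
  obtain ⟨b, c, hb, hc, hbc⟩ := hex
  have hdis : Disjoint (orbit S b) (orbit S c) := by
    rw [Set.disjoint_left]
    intro x hx hx'
    have h1 : orbit S b = orbit S c := (orbit_eq_iff.2 hx).symm.trans (orbit_eq_iff.2 hx')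
    refine hone b hb fun y => ?_
    rcases hbc y with h | h | h
    · exact Or.inl h
    · exact Or.inr h
    · rw [← h1] at h; exact Or.inr h
  have hsum : (orbit S b).ncard + (orbit S c).ncard = n := by
    have h1 : (({a} : Set X) ∪ (orbit S b ∪ orbit S c)) = Set.univ := by
      rw [Set.eq_univ_iff_forall]
      intro x
      rcases hbc x with h | h
      · exact Or.inl h
      · exact Or.inr h
    have h2 : (({a} : Set X) ∪ (orbit S b ∪ orbit S c)).ncard = 1 + ((orbit S b).ncard + (orbit S c).ncard) := by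
      rw [Set.ncard_union_eq, Set.ncard_singleton, Set.ncard_union_eq hdis]
      rw [Set.disjoint_left]
      rintro x hx hx'
      rw [Set.mem_singleton_iff] at hx
      subst hx
      rcases hx' with h | h
      · exact haorb hb h
      · exact haorb hc h
    rw [h1, Set.ncard_univ, hn] at h2
    omega
  have hR := R3.of_orbits (G := G) ht hb hc rfl rfl (by
    intro he
    rw [← hsum] at hodd
    exact (Nat.not_even_iff_odd.2 hodd) ⟨_, congrArg (fun m => (orbit S b).ncard + m) he.symm⟩)
    (hn.trans (by rw [← hsum, add_comm _ 1, add_assoc]))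
  exact ⟨_, _, _, hR, hsum, horbdvd b, horbdvd c⟩

theorem exists_R3_pairs {F G : Type*} [Group F] [Finite F] [Group G] (rho : G →* Equiv.Perm ℕ) (φ : F →* G) (l : G)
    (H : Subgroup G) (hφ : ∀ f, φ f ∈ H) (hl : l ∈ H) (hll : l * l = 1) (hcen : ∀ h ∈ H, h * l = l * h)
    (hcov : ∀ h ∈ H, ∃ f, h = φ f ∨ h = φ f * l) (U : Set ℕ) (p₀ : ℕ)
    (hU : {p : ℕ | ∃ h ∈ H, rho h p₀ = p} = U) (hne : rho l p₀ ≠ p₀) {n s : ℕ} (hn : U.ncard = 2 * (n + 1)) (hn0 : 0 < n)
    (hodd : Odd n) (hs : Nat.card F = (n + 1) * s) (hnd : ¬ n ∣ s)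
    (q : Fin 3 → ℕ) (hq : ∀ i, q i ∈ U)
    (hK : ∀ p ∈ U, ∃ i, ∃ k ∈ H, (rho k p₀ = p₀ ∨ rho k p₀ = rho l p₀) ∧ rho k (q i) = p) :
    ∃ (X : Type) (_ : MulAction F X) (k m : ℕ) (R : X → X → Prop), R3 F X R k m ∧ k + m = n ∧ k ∣ s ∧ m ∣ s := by
  classical
  let P : ℕ → Set ℕ := fun p => {p, rho l p}
  have hlp : ∀ p, rho l (rho l p) = p := by
    intro p
    rw [← Equiv.Perm.mul_apply, ← map_mul, hll, map_one, Equiv.Perm.one_apply]
  have hcom : ∀ h ∈ H, ∀ p, rho l (rho h p) = rho h (rho l p) := by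
    intro h hh p
    rw [← Equiv.Perm.mul_apply, ← map_mul, ← hcen h hh, map_mul, Equiv.Perm.mul_apply]
  have hPim : ∀ h ∈ H, ∀ p, rho h '' P p = P (rho h p) := by
    intro h hh p
    change rho h '' {p, rho l p} = {rho h p, rho l (rho h p)}
    rw [Set.image_pair, hcom h hh]
  have hPl : ∀ p, P (rho l p) = P p := by
    intro p
    change ({rho l p, rho l (rho l p)} : Set ℕ) = {p, rho l p}
    rw [hlp, Set.pair_comm]
  have hPf : ∀ k ∈ H, ∃ f, ∀ p, rho (φ f) '' P p = P (rho k p) := by
    intro k hk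
    obtain ⟨f, rfl | rfl⟩ := hcov k hk
    · exact ⟨f, hPim _ hk⟩
    · refine ⟨f, fun p => ?_⟩
      rw [hPim _ (hφ f), map_mul, Equiv.Perm.mul_apply, ← hPim _ (hφ f), ← hPim _ (hφ f), hPl]
  have hUH : ∀ h ∈ H, ∀ p ∈ U, rho h p ∈ U := by
    intro h hh p hp
    rw [← hU] at hp ⊢
    obtain ⟨k, hk, rfl⟩ := hp
    exact ⟨h * k, H.mul_mem hh hk, by rw [map_mul, Equiv.Perm.mul_apply]⟩
  have hp₀ : p₀ ∈ U := by
    rw [← hU]
    exact ⟨1, H.one_mem, by rw [map_one, Equiv.Perm.one_apply]⟩
  have hfree : ∀ p ∈ U, rho l p ≠ p := by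
    intro p hp
    rw [← hU] at hp
    obtain ⟨h, hh, rfl⟩ := hp
    rw [hcom h hh]
    exact fun he => hne ((rho h).injective he)
  let X : Type := {s : Set ℕ // s ∈ P '' U}
  let _ : MulAction F X :=
    { smul := fun f s => ⟨rho (φ f) '' s.1, by
        obtain ⟨_, p, hp, rfl⟩ := s
        exact ⟨rho (φ f) p, hUH _ (hφ f) p hp, (hPim _ (hφ f) p).symm⟩⟩
      one_smul := fun s => Subtype.ext (by
        change rho (φ 1) '' s.1 = s.1
        rw [map_one, map_one, Equiv.Perm.coe_one, Set.image_id])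
      mul_smul := fun f g s => Subtype.ext (by
        change rho (φ (f * g)) '' s.1 = rho (φ f) '' (rho (φ g) '' s.1)
        rw [map_mul, map_mul, Equiv.Perm.coe_mul, Set.image_comp]) }
  have hsm : ∀ (f : F) (s : X), ((f • s : X) : Set ℕ) = rho (φ f) '' s.1 := fun _ _ => rfl
  have hUfin : U.Finite := Set.finite_of_ncard_ne_zero (by rw [hn]; omega)
  have hXfin : Finite X := (hUfin.image P).to_subtype
  let mk : (p : ℕ) → p ∈ U → X := fun p hp => ⟨P p, p, hp, rfl⟩
  have htr : IsPretransitive F X := by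
    refine ⟨?_⟩
    rintro ⟨_, p, hp, rfl⟩ ⟨_, p', hp', rfl⟩
    rw [← hU] at hp hp'
    obtain ⟨h, hh, rfl⟩ := hp
    obtain ⟨h', hh', rfl⟩ := hp'
    obtain ⟨f, hf⟩ := hPf (h' * h⁻¹) (H.mul_mem hh' (H.inv_mem hh))
    refine ⟨f, Subtype.ext ?_⟩
    rw [hsm]
    change rho (φ f) '' P (rho h p₀) = P (rho h' p₀)
    rw [hf, ← Equiv.Perm.mul_apply, ← map_mul, inv_mul_cancel_right]
  have hcardX : Nat.card X = n + 1 := by
    have h1 : Nat.card X = (P '' U).ncard := Nat.card_coe_set_eq _
    have h2 : U.ncard = 2 * (P '' U).ncard := by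
      obtain ⟨T, hT⟩ : ∃ T : Finset ℕ, T = hUfin.toFinset := ⟨_, rfl⟩
      have hTU : (T : Set ℕ) = U := by rw [hT]; exact hUfin.coe_toFinset
      have h3 : ∀ s ∈ T.image P, (T.filter fun p => P p = s).card = 2 := by
        intro s hs
        obtain ⟨p, hp, rfl⟩ := Finset.mem_image.1 hs
        have hpU : p ∈ U := by rw [← hTU]; exact hp
        have h4 : (T.filter fun p' => P p' = P p) = {p, rho l p} := by
          ext p'
          rw [Finset.mem_filter, Finset.mem_insert, Finset.mem_singleton]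
          constructor
          · rintro ⟨-, h⟩
            have h5 : p' ∈ P p := by rw [← h]; exact Set.mem_insert _ _
            exact h5
          · rintro (rfl | rfl)
            · exact ⟨hp, rfl⟩
            · refine ⟨?_, hPl p⟩
              have h6 : rho l p ∈ U := hUH l hl p hpU
              rw [← hTU] at h6
              exact h6
        rw [h4, Finset.card_pair (hfree p hpU).symm]
      have h7 := Finset.card_eq_sum_card_image P T
      rw [Finset.sum_congr rfl h3, Finset.sum_const, smul_eq_mul] at h7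
      have h8 : (P '' U).ncard = (T.image P).card := by
        rw [← Set.ncard_coe_finset, Finset.coe_image, hTU]
      rw [h8, ← hTU, Set.ncard_coe_finset, h7, mul_comm]
    rw [h1]
    omega
  have hst : Nat.card (stabilizer F (mk p₀ hp₀)) = s := by
    have h1 := (stabilizer F (mk p₀ hp₀)).card_mul_index
    rw [MulAction.index_stabilizer_of_transitive, hcardX, hs, mul_comm] at h1
    exact Nat.eq_of_mul_eq_mul_left (Nat.succ_pos n) h1
  have key := exists_R3_of_cover htr (mk p₀ hp₀) (fun i => mk (q i) (hq i)) (by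
    rintro ⟨_, p, hp, rfl⟩
    obtain ⟨i, k, hk, hk0, rfl⟩ := hK p hp
    obtain ⟨f, hf⟩ := hPf k hk
    refine ⟨i, ⟨f, ?_⟩, Subtype.ext (hf _)⟩
    rw [mem_stabilizer_iff]
    apply Subtype.ext
    rw [hsm]
    change rho (φ f) '' P p₀ = P p₀
    rw [hf]
    rcases hk0 with h | h
    · rw [h]
    · rw [h, hPl]) hcardX hn0 hodd (by rw [hst]; exact hnd)
  rw [hst] at key
  obtain ⟨k, m, R, h1, h2, h3, h4⟩ := key
  exact ⟨X, inferInstance, k, m, R, h1, h2, h3, h4⟩

end Cfsg.Agent.H678.DG
end

-- part: H678/DG/FiPts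
section
/-!
# The degrees 30888, 106743 of `Fi₂₃` (rank 3 on 137632 points) (helper678)
-/

set_option autoImplicit false
set_option maxRecDepth 100000

namespace Cfsg.Agent.H678.DG.FiPts

open Cfsg MulAction Cfsg.Agent.H672.SporIM
open Cfsg.Agent.Lib.PermNet Cfsg.Agent.Lib.PermNetOrbit Cfsg.Agent.Fischer.Fi24RepLib
  Cfsg.Agent.Fischer.Fi24RepDef Cfsg.Agent.Fischer.Fi24RepOrbData Cfsg.Agent.Fischer.Fi24RepOrb
open Cfsg.Agent.Fischer.Fi24Rep (rho rho_word word nws nws_ok)
open Cfsg.Agent.Fischer.Fi24Class (gen img emb emb_ne_k comm_l gen_sq exists_fi23_hom)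
open Cfsg.Agent.H52.GowFi23Chk Cfsg.Agent.H52.GowFi23
open Cfsg.Spor (Fi24)

universe u

/-- The factors of the order of the point stabilizer. -/
def Ls : List (ℕ × ℕ) := [(2, 13), (3, 13), (5, 2), (7, 1), (13, 1)]

theorem chk : ((divList Ls).all fun d => Nat.blt 137631 d || !Nat.beq (29713078886400 % (137631 - d)) 0 ||
    Nat.beq d 28431 || Nat.beq d 109200) = true := by decide +kernel

theorem subdeg {k m : ℕ} (h : k + m = 137631) (hk : k ∣ 29713078886400) (hm : m ∣ 29713078886400) :
    (k = 28431 ∧ m = 109200) ∨ (k = 109200 ∧ m = 28431) := by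
  have h1 : k ∈ divList Ls := mem_divList (by simp only [Ls, List.forall_mem_cons]; norm_num) (by
    have : (Ls.map fun x => x.1 ^ x.2).prod = 29713078886400 := by decide +kernel
    rw [this]; exact hk)
  have h2 := List.all_eq_true.1 chk k h1
  simp only [Bool.or_eq_true, Nat.blt_eq, Bool.not_eq_true', Nat.beq_eq] at h2
  rcases h2 with ((h2 | h2) | h2) | h2
  · omega
  · have h3 : 137631 - k = m := by omega
    rw [h3, Nat.mod_eq_zero_of_dvd hm] at h2
    exact absurd h2 (by decide)
  · left; omega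
  · right; omega

theorem exists_R3 [Finite Spor.Fi23] : ∃ (X : Type) (_ : MulAction Spor.Fi23 X) (k m : ℕ) (R : X → X → Prop),
    H690.Spor.RankThree.R3 Spor.Fi23 X R k m ∧ k + m = 137631 ∧ k ∣ 29713078886400 ∧ m ∣ 29713078886400 := by
  have hc := Cfsg.Agent.NotCT.Orders.fi23 (K := Spor.Fi23) ⟨MulEquiv.refl _⟩
  obtain ⟨hidx, hst, -⟩ := SporRec.Fi24Index.index_and_suborbits
  obtain ⟨φ, hφ⟩ := exists_fi23_hom (Fischer.Fi24Spider.spider_rel hst)
  have hφH : ∀ f, φ f ∈ H := by
    have hr : φ.range ≤ H := by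
      rw [MonoidHom.range_eq_map, ← Cfsg.Agent.SporRec.Fi23Rel.closure_gen, MonoidHom.map_closure,
        Subgroup.closure_le]
      rintro _ ⟨_, ⟨x, rfl⟩, rfl⟩
      rw [SetLike.mem_coe, hφ]
      exact mul_mem (mem_H_gen (emb_ne_k x)) (mem_H_gen (by decide))
    exact fun f => hr ⟨f, rfl⟩
  refine exists_R3_pairs rho φ (gen .l) H hφH l_mem (gen_sq _) comm_H (hcov φ hφ hφH)
    {p | UR.testBit p = true} 307872 ?_ ?_ (n := 137631) ?_ (by norm_num) (by decide) (by rw [hc]) (by norm_num)
    ![307872, 32768, 32833] ?_ ?_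
  · rw [← orbR]
  · rw [rho_l]; norm_num
  · rw [ncard_R]
  · intro i
    fin_cases i
    · exact (tb_eq UR 307872).symm.trans tbR
    · exact (tb_eq UR 32768).symm.trans tb1
    · exact (tb_eq UR 32833).symm.trans tb2
  · intro p hp
    obtain ⟨i, k, hk, h1⟩ := cover p hp
    refine ⟨i, k, K₁_le hk, ?_, h1⟩
    rw [rho_l]
    rcases K₁_fix k hk with h | h
    · exact Or.inl h.1
    · exact Or.inr h.1

theorem im_fi23 {K : Type u} [Group K] (h : Spor.IsoFi23 K) : HasDeg K 106743 := by
  have hc := Cfsg.Agent.NotCT.Orders.fi23 (K := Spor.Fi23) ⟨MulEquiv.refl _⟩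
  have : Finite Spor.Fi23 := Nat.finite_of_card_ne_zero (by rw [hc]; norm_num)
  obtain ⟨e⟩ := h
  obtain ⟨X, i, k, m, R, hR, h1, h2, h3⟩ := exists_R3
  obtain ⟨x, hx, hd⟩ : ∃ x ∈ [(106743, 30888)], HasDeg Spor.Fi23 x.1 ∧ HasDeg Spor.Fi23 x.2 := by
    rcases subdeg h1 h2 h3 with ⟨rfl, rfl⟩ | ⟨rfl, rfl⟩
    · exact degrees_of_R3 hR hc rfl (P := 427301280806400) (by norm_num) [(2, 4), (3, 4), (5, 1), (13, 1)]
        [2, 7, 11, 17, 23] (by simp only [List.forall_mem_cons]; norm_num)
        (by simp only [List.forall_mem_cons]; norm_num) (by decide) (by norm_num) (Or.inl (by decide)) [(106743, 30888)]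
        (by decide +kernel)
    · exact degrees_of_R3 hR hc rfl (P := 427301280806400) (by norm_num) [(2, 4), (3, 4), (5, 1), (13, 1)]
        [2, 7, 11, 17, 23] (by simp only [List.forall_mem_cons]; norm_num)
        (by simp only [List.forall_mem_cons]; norm_num) (by decide) (by norm_num) (Or.inl (by decide)) [(106743, 30888)]
        (by decide +kernel)
  rw [List.mem_singleton] at hx
  subst hx
  exact hd.1.of_equiv e

end Cfsg.Agent.H678.DG.FiPts
end

private theorem dce_78f4f2637ed8 : _root_.True := by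
  try have : _root_.True := by simp only [_root_.Cfsg.Agent.H678.DG.FiPts.Ls.eq_1]
  exact _root_.True.intro
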