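import Cfsg.Agent.H570.Ore.Blk_m3
import Cfsg.Agent.SmallSimple.TheoremCCor
import Cfsg.Agent.H678.DG.BlkRel
import Cfsg.Agent.H838.Transport
import Cfsg.Agent.H839.Count
import Cfsg.Agent.Prune
set_option linter.all false
prune_inst 0x7f00000000000000000000000000000000000000000000000000000000000000000000000000000000000000000000000000000000000000000000000000000000000000000000000000000000000000003fffffffffffffffffffffffffffbeffbdfbfeffff
open scoped Cfsg.Agent.FastGrp

-- part: H678/DG/BlkPar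
section
/-!
# Parity arguments with sign relations (helper678)

* `sum_signs_ne` : an odd number of signs has a nonzero sum.
* `Rel` : a sign relation on the `p`-regular elements.
* `Rel.col` : the relation for the columns of a prime different from `p`.
* `Rel.exists_zero` : if the column takes the values `0, ± w` only and the number of members is odd then it vanishes
  at a member.
* `col_stable` : the column of a prime `r ∥ |G|` when `N(R)` acts trivially on the characters of the `r'`-part of `C(R)`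
  and transitively on `R ∖ 1`.
-/

set_option autoImplicit false

namespace Cfsg.Agent.H678.DG

open Cfsg Subgroup
open Cfsg.Agent.Characters.Core Cfsg.Agent.H653.Sieve
open Cfsg.Agent.SmallSimple.ThetaSetup Cfsg.Agent.SmallSimple.ThetaOrtho
open Cfsg.Agent.SmallSimple.TheoremC Cfsg.Agent.SmallSimple.TheoremCCor Cfsg.Agent.SmallSimple.ThetaCount

universe u

theorem odd_sum_iff {ι : Type*} (F : Finset ι) (f : ι → ℤ) :
    Odd (∑ i ∈ F, f i) ↔ Odd (F.filter fun i => Odd (f i)).card := by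
  classical
  induction F using Finset.induction_on with
  | empty => simp
  | insert a F ha ih =>
    rw [Finset.sum_insert ha, Finset.filter_insert]
    by_cases h : Odd (f a)
    · rw [if_pos h, Finset.card_insert_of_notMem (fun h' => ha (Finset.mem_filter.1 h').1), Int.odd_add,
        Nat.odd_add_one, ← ih]
      simp only [h, _root_.true_iff, _root_.Int.not_odd_iff_even]
    · rw [if_neg h, ← ih, Int.odd_add]
      simp only [h, _root_.false_iff, _root_.Int.not_even_iff_odd]

/-- An odd number of odd integers has an odd sum. -/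
theorem odd_sum {ι : Type*} (F : Finset ι) (f : ι → ℤ) (h : ∀ i ∈ F, Odd (f i)) (hodd : Odd F.card) :
    Odd (∑ i ∈ F, f i) := by
  rw [odd_sum_iff]
  rwa [Finset.filter_true_of_mem h]

variable {G : Type u} [Group G] [Finite G] {p : ℕ}

/-- A sign relation between the members of `F` on the `p`-regular elements. -/
structure Rel (p : ℕ) (F : Finset (IrrCharacter G)) (δ : IrrCharacter G → ℤ) : Prop where
  sign : ∀ χ ∈ F, δ χ = 1 ∨ δ χ = -1
  rel : ∀ g : G, ¬ p ∣ orderOf g → ∑ χ ∈ F, (δ χ : ℂ) * (χ : G → ℂ) g = 0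

omit [Finite G] in
theorem Rel.odd {F : Finset (IrrCharacter G)} {δ : IrrCharacter G → ℤ} (h : Rel p F δ) {χ : IrrCharacter G}
    (hχ : χ ∈ F) : Odd (δ χ) := by
  rcases h.sign χ hχ with h | h <;> rw [h] <;> decide

theorem Rel.col {F : Finset (IrrCharacter G)} {δ : IrrCharacter G → ℤ} (h : Rel p F δ) {P : Subgroup G}
    (hP : ∀ x ∈ P, ¬ p ∣ orderOf x) {e : ℕ} (he : e ≠ 0) {W : IrrCharacter G → ℤ} (hW : IsCol P e W) :
    ∑ χ ∈ F, δ χ * W χ = 0 := by
  classical
  have := Fintype.ofFinite P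
  have h1 : ∑ χ ∈ F, (δ χ : ℂ) * csum P (χ : G → ℂ) = 0 := by
    have h2 : ∀ χ ∈ F, (δ χ : ℂ) * csum P (χ : G → ℂ) =
        ∑ x : P, (δ χ : ℂ) * (χ : G → ℂ) x - (δ χ : ℂ) * (χ : G → ℂ) 1 := by
      intro χ _
      rw [csum_eq, mul_sub, Finset.mul_sum]
    rw [Finset.sum_congr rfl h2, Finset.sum_sub_distrib, Finset.sum_comm, h.rel 1 (by
      have := hP 1 (one_mem _)
      exact this), Finset.sum_eq_zero fun (x : P) _ => h.rel x (hP x x.2), sub_zero]
  have h2 : (e : ℂ) * ((∑ χ ∈ F, δ χ * W χ : ℤ) : ℂ) = 0 := by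
    rw [← h1]
    push_cast
    rw [Finset.mul_sum]
    refine Finset.sum_congr rfl fun χ _ => ?_
    rw [← hW χ]
    ring
  have h3 := (mul_eq_zero.1 h2).resolve_left (by exact_mod_cast he)
  exact_mod_cast h3

/-- **Parity.** -/
theorem Rel.exists_zero {F : Finset (IrrCharacter G)} {δ : IrrCharacter G → ℤ} (h : Rel p F δ) (hodd : Odd F.card)
    {W : IrrCharacter G → ℤ} (hW : ∑ χ ∈ F, δ χ * W χ = 0) {w : ℤ} (hw : w ≠ 0)
    (hval : ∀ χ ∈ F, W χ = 0 ∨ W χ = w ∨ W χ = -w) : ∃ χ ∈ F, W χ = 0 := by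
  classical
  by_contra hcon
  push Not at hcon
  have hval' : ∀ χ ∈ F, ∃ s : ℤ, (s = 1 ∨ s = -1) ∧ W χ = s * w := by
    intro χ hχ
    rcases (hval χ hχ).resolve_left (hcon χ hχ) with h | h
    · exact ⟨1, Or.inl rfl, by rw [h, one_mul]⟩
    · exact ⟨-1, Or.inr rfl, by rw [h, neg_one_mul]⟩
  choose! s hs1 hs2 using hval'
  have h1 : (∑ χ ∈ F, δ χ * s χ) * w = 0 := by
    rw [Finset.sum_mul, ← hW]
    refine Finset.sum_congr rfl fun χ hχ => ?_
    rw [hs2 χ hχ]; ring
  have h2 := (mul_eq_zero.1 h1).resolve_right hw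
  have h3 := odd_sum F (fun χ => δ χ * s χ) (fun χ hχ => by
    refine (h.odd hχ).mul ?_
    rcases hs1 χ hχ with h | h <;> rw [h] <;> decide) hodd
  rw [h2] at h3
  exact absurd h3 (by decide)

/-- The number of the members with an odd value of the column is even. -/
theorem Rel.even_card {F : Finset (IrrCharacter G)} {δ : IrrCharacter G → ℤ} (h : Rel p F δ)
    {W : IrrCharacter G → ℤ} (hW : ∑ χ ∈ F, δ χ * W χ = 0) : Even (F.filter fun χ => Odd (W χ)).card := by
  classical
  by_contra hcon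
  rw [Nat.not_even_iff_odd] at hcon
  have h1 : Odd (∑ χ ∈ F, δ χ * W χ) := by
    rw [odd_sum_iff]
    have h2 : (F.filter fun χ => Odd (δ χ * W χ)) = F.filter fun χ => Odd (W χ) := by
      refine Finset.filter_congr fun χ hχ => ?_
      rw [Int.odd_mul]
      exact and_iff_right (h.odd hχ)
    rwa [h2]
  rw [hW] at h1
  exact absurd h1 (by decide)

/-- **The column of a prime, trivial action.** -/
theorem col_stable {r : ℕ} [Fact r.Prime] {P : Sylow r G} (hP : Nat.card P = r) {K : Subgroup G}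
    (hK : IsComp r (P : Subgroup G) K)
    (hst : ∀ n ∈ normalizer ((P : Subgroup G) : Set G), ∃ k ∈ K, ∀ y ∈ K, n * y * n⁻¹ = k * y * k⁻¹)
    (he : (centralizer ((P : Subgroup G) : Set G)).relIndex (normalizer ((P : Subgroup G) : Set G)) = r - 1)
    (χ : IrrCharacter G) : ∃ w : ℤ, (∀ x ∈ (P : Subgroup G), x ≠ 1 → (χ : G → ℂ) x = w) ∧
      (w = 0 ∨ ∃ θ : IrrCharacter K, w = charDegree (θ : K → ℂ) ∨ w = -(charDegree (θ : K → ℂ) : ℤ)) := by
  classical
  by_cases hv : ∃ g : G, r ∣ orderOf g ∧ (χ : G → ℂ) g ≠ 0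
  · obtain ⟨θ, hθ⟩ := exists_mem_Over hK hP (χ := χ) hv
    have hstab : ∀ n ∈ normalizer ((P : Subgroup G) : Set G), tw (θ : K → ℂ) n = θ := by
      intro n hn
      funext y
      rw [tw_apply hK _ hn]
      obtain ⟨k, hk, h⟩ := hst n hn
      have h1 : (⟨n * y * n⁻¹, conj_mem hK hn y.2⟩ : K) = (⟨k, hk⟩ : K) * y * (⟨k, hk⟩ : K)⁻¹ :=
        Subtype.ext (h y y.2)
      rw [h1]
      exact isIrr_isClassFunction θ.2 y ⟨k, hk⟩
    have he' : Nat.card (stabAct hK (θ : K → ℂ)) = r - 1 := by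
      rw [card_stabAct_of_stable hK hP θ.2 hstab, he]
    obtain ⟨B, δ, -, hB, hδ, -⟩ := theoremC_one hK hP θ.2 he'
    obtain ⟨n, hn0, hn1⟩ := isIrr_apply_one θ.2
    have hdeg : charDegree (θ : K → ℂ) = n := by
      unfold charDegree
      rw [hn1]; simp
    obtain ⟨hs, hpart⟩ := hδ χ ((hB χ).1 hθ)
    refine ⟨δ χ * n, fun x hx hx1 => ?_, Or.inr ⟨θ, ?_⟩⟩
    · have h1 := apply_of_stable hK hP θ.2 hstab hθ (x := (⟨x, hx⟩ : (P : Subgroup G)))
        (fun h => hx1 (congrArg Subtype.val h)) 1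
      rw [Subgroup.coe_one, mul_one] at h1
      have h2 : (χ : G → ℂ) ((⟨x, hx⟩ : (P : Subgroup G)) : G) = (χ : G → ℂ) x := rfl
      rw [h2] at h1
      rw [h1, hpart _ (fun h => hx1 (congrArg Subtype.val h)), hn1]
      push_cast
      rfl
    · rw [hdeg]
      rcases hs with h | h <;> rw [h]
      · left; rw [one_mul]
      · right; rw [neg_one_mul]
  · refine ⟨0, ?_, Or.inl rfl⟩
    push Not at hv
    intro x hx hx1
    rw [Int.cast_zero]
    apply hv
    rw [Blocks.CyclicOrtho.orderOf_eq P hP hx hx1]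

/-- Vanishing on a group of order `r` gives `r ∣ χ(1)`. -/
theorem dvd_of_zero {r : ℕ} {P : Subgroup G} (hP : Nat.card P = r) {χ : IrrCharacter G}
    (h : ∀ x ∈ P, x ≠ 1 → (χ : G → ℂ) x = 0) : r ∣ charDegree (χ : G → ℂ) := by
  classical
  have := Fintype.ofFinite P
  obtain ⟨m, hm⟩ := SmallSimple.TheoremBCor.exists_sum_eq (isIrr_isCharacter χ.2) P
  have h1 : ∑ x : P, (χ : G → ℂ) x = (χ : G → ℂ) 1 := by
    rw [Finset.sum_eq_single_of_mem (1 : P) (Finset.mem_univ _)]
    · simp
    · intro x _ hx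
      exact h x x.2 fun e => hx (Subtype.ext e)
  rw [h1, Blocks.Knorr.charDegree_eq χ.2, hP] at hm
  exact ⟨m, by rw [mul_comm]; exact_mod_cast hm⟩

end Cfsg.Agent.H678.DG
end

-- part: H678/DG/NormLoc
section
/-!
# The local structure `N(X) = F × S`, `F ∩ C(X) = X` (helper678)
-/

set_option autoImplicit false

namespace Cfsg.Agent.H678.DG

open Cfsg Subgroup
open Cfsg.Agent.Characters.Core Cfsg.Agent.Blocks.Basic Cfsg.Agent.Blocks.Local
open Cfsg.Agent.H838.Transport

/-- `N(X) = F × S` with `F ∩ C(X) = X` and `S ≅ Sym(n)`. -/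
structure Loc {G : Type*} [Group G] (m n : ℕ) (X F S : Subgroup G) : Prop where
  cardF : Nat.card F = m
  le : X ≤ F
  inf : F ⊓ centralizer (X : Set G) = X
  bot : F ⊓ S = ⊥
  comm : ∀ x ∈ F, ∀ y ∈ S, x * y = y * x
  sup : F ⊔ S = normalizer (X : Set G)
  iso : Nonempty (S ≃* Equiv.Perm (Fin n))

variable {G : Type*} [Group G] {m n : ℕ} {X F S : Subgroup G}

theorem exists_loc {D : Set G} (h : NormStr m n D X) : ∃ F S : Subgroup G, Loc m n X F S := by
  obtain ⟨F, h1, h2, h3, h4, h5, h6, h7⟩ := h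
  exact ⟨F, _, h1, h2, h3, h4, h5, h6, h7⟩

namespace Loc

theorem leS (h : Loc m n X F S) : S ≤ centralizer (X : Set G) := by
  intro s hs
  rw [mem_centralizer_iff]
  intro x hx
  exact h.comm x (h.le hx) s hs

theorem exists_mul (h : Loc m n X F S) {g : G} (hg : g ∈ normalizer (X : Set G)) : ∃ f ∈ F, ∃ s ∈ S, g = f * s := by
  rw [← h.sup] at hg
  have hcm : ∀ (a : ↥F) (b : ↥S), Commute (F.subtype a) (S.subtype b) := fun a b => h.comm a a.2 b b.2
  have hle : F ⊔ S ≤ (MonoidHom.noncommCoprod F.subtype S.subtype hcm).range := by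
    refine sup_le ?_ ?_
    · intro x hx
      exact ⟨(⟨x, hx⟩, 1), by simp only [_root_.MonoidHom.noncommCoprod_apply, _root_.Subgroup.subtype_apply, _root_.OneMemClass.coe_one, _root_.mul_one]⟩
    · intro x hx
      exact ⟨(1, ⟨x, hx⟩), by simp only [_root_.MonoidHom.noncommCoprod_apply, _root_.Subgroup.subtype_apply, _root_.OneMemClass.coe_one, _root_.one_mul]⟩
  obtain ⟨⟨a, b⟩, hab⟩ := hle hg
  exact ⟨a, a.2, b, b.2, by rw [← hab]; simp⟩

theorem exists_mul_cent (h : Loc m n X F S) {c : G} (hc : c ∈ centralizer (X : Set G)) :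
    ∃ x ∈ X, ∃ s ∈ S, c = x * s := by
  obtain ⟨x, hx, s, hs, rfl⟩ := h.exists_mul (centralizer_le_normalizer _ hc)
  refine ⟨x, ?_, s, hs, rfl⟩
  rw [← h.inf]
  refine ⟨hx, ?_⟩
  have h3 := mul_mem hc (inv_mem (h.leS hs))
  rwa [mul_inv_cancel_right] at h3

theorem botX (h : Loc m n X F S) : X ⊓ S = ⊥ := by
  rw [eq_bot_iff, ← h.bot]
  exact inf_le_inf_right _ h.le

theorem comm' (h : Loc m n X F S) : ∀ x ∈ X, ∀ y ∈ S, x * y = y * x := fun x hx y hy => h.comm x (h.le hx) y hy

theorem mem_S_of_reg (h : Loc m n X F S) {p : ℕ} (hp : ∀ x ∈ X, x ≠ 1 → orderOf x = p) {c : G}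
    (hc : c ∈ centralizer (X : Set G)) (hcp : ¬ p ∣ orderOf c) : c ∈ S := by
  obtain ⟨x, hx, s, hs, rfl⟩ := h.exists_mul_cent hc
  have hcom : Commute x s := h.comm' x hx s hs
  by_cases hx1 : x = 1
  · rw [hx1, one_mul]; exact hs
  exfalso
  apply hcp
  rw [← hp x hx hx1, orderOf_dvd_iff_pow_eq_one]
  have h1 : (x * s) ^ orderOf (x * s) = 1 := pow_orderOf_eq_one _
  rw [hcom.mul_pow] at h1
  have h2 : x ^ orderOf (x * s) ∈ X ⊓ S := by
    refine ⟨pow_mem hx _, ?_⟩
    rw [eq_inv_of_mul_eq_one_left h1]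
    exact S.inv_mem (S.pow_mem hs _)
  rw [h.botX, mem_bot] at h2
  exact h2

theorem cent_eq (h : Loc m n X F S) (hX : X ≤ centralizer (X : Set G)) : X ⊔ S = centralizer (X : Set G) := by
  apply le_antisymm (sup_le hX h.leS)
  intro c hc
  obtain ⟨x, hx, s, hs, rfl⟩ := h.exists_mul_cent hc
  exact mul_mem (mem_sup_left hx) (mem_sup_right hs)

theorem cardS (h : Loc m n X F S) : Nat.card S = n.factorial := by
  obtain ⟨e⟩ := h.iso
  rw [Nat.card_congr e.toEquiv, Nat.card_eq_fintype_card, Fintype.card_perm, Fintype.card_fin]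

theorem card_cent (h : Loc m n X F S) (hX : X ≤ centralizer (X : Set G)) :
    Nat.card (centralizer (X : Set G)) = Nat.card X * n.factorial := by
  rw [← h.cent_eq hX, H839.Count.card_sup_of_comm h.comm' h.botX, h.cardS]

theorem card_norm (h : Loc m n X F S) : Nat.card (normalizer (X : Set G)) = m * n.factorial := by
  rw [← h.sup, H839.Count.card_sup_of_comm h.comm h.bot, h.cardS, h.cardF]

theorem relIndex [Finite G] (h : Loc m n X F S) (hX : X ≤ centralizer (X : Set G)) {e : ℕ} (he : m = Nat.card X * e) :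
    (centralizer (X : Set G)).relIndex (normalizer (X : Set G)) = e := by
  have hle : centralizer (X : Set G) ≤ normalizer (X : Set G) := centralizer_le_normalizer _
  have h3 := Subgroup.index_mul_card ((centralizer (X : Set G)).subgroupOf (normalizer (X : Set G)))
  rw [Nat.card_congr (Subgroup.subgroupOfEquivOfLe hle).toEquiv, h.card_cent hX, h.card_norm, he] at h3
  have h4 : 0 < Nat.card X * n.factorial := Nat.mul_pos Nat.card_pos n.factorial_pos
  apply Nat.eq_of_mul_eq_mul_right h4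
  rw [Subgroup.relIndex, h3]; ring

/-- The homomorphism onto the symmetric group. -/
theorem exists_hom (h : Loc m n X F S) (hX : X ≤ centralizer (X : Set G)) :
    ∃ f : ↥(centralizer (X : Set G)) →* Equiv.Perm (Fin n), Function.Surjective f ∧
      ∀ c, f c = 1 ↔ (c : G) ∈ X := by
  obtain ⟨e⟩ := h.iso
  have hcm : ∀ (a : ↥X) (b : ↥S), Commute (inclusion hX a) (inclusion h.leS b) := fun a b =>
    Subtype.ext (h.comm' a a.2 b b.2)
  let φ : ↥X × ↥S →* ↥(centralizer (X : Set G)) := MonoidHom.noncommCoprod (inclusion hX) (inclusion h.leS) hcm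
  have hφ : ∀ a b, ((φ (a, b) : ↥(centralizer (X : Set G))) : G) = a * b := fun a b => by
    simp [φ]
  have hbij : Function.Bijective φ := by
    constructor
    · rw [injective_iff_map_eq_one]
      rintro ⟨a, b⟩ hab
      have h1 : (a : G) * b = 1 := by rw [← hφ, hab]; rfl
      have h2 : (b : G) ∈ X ⊓ S := by
        refine ⟨?_, b.2⟩
        have h3 : (b : G) = (a : G)⁻¹ := eq_inv_of_mul_eq_one_right h1
        rw [h3]
        exact X.inv_mem a.2
      rw [h.botX, mem_bot] at h2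
      rw [h2, mul_one] at h1
      exact Prod.ext (Subtype.ext h1) (Subtype.ext h2)
    · rintro ⟨c, hc⟩
      obtain ⟨x, hx, s, hs, rfl⟩ := h.exists_mul_cent hc
      exact ⟨(⟨x, hx⟩, ⟨s, hs⟩), Subtype.ext (hφ _ _)⟩
  let ψ := MulEquiv.ofBijective φ hbij
  refine ⟨(e.toMonoidHom.comp (MonoidHom.snd ↥X ↥S)).comp ψ.symm.toMonoidHom, ?_, ?_⟩
  · intro y
    refine ⟨ψ (1, e.symm y), ?_⟩
    simp only [_root_.MulEquiv.toMonoidHom_eq_coe, _root_.MonoidHom.coe_comp, _root_.MonoidHom.coe_coe, _root_.MonoidHom.coe_snd, _root_.Function.comp_apply, _root_.MulEquiv.symm_apply_apply, _root_.MulEquiv.apply_symm_apply]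
  · intro c
    obtain ⟨⟨a, b⟩, rfl⟩ := ψ.surjective c
    have h1 : ((ψ (a, b) : ↥(centralizer (X : Set G))) : G) = a * b := hφ a b
    rw [h1]
    have h2 : ((e.toMonoidHom.comp (MonoidHom.snd ↥X ↥S)).comp ψ.symm.toMonoidHom) (ψ (a, b)) = e b := by
      simp only [_root_.MulEquiv.toMonoidHom_eq_coe, _root_.MonoidHom.coe_comp, _root_.MonoidHom.coe_coe, _root_.MonoidHom.coe_snd, _root_.Function.comp_apply, _root_.MulEquiv.symm_apply_apply]
    rw [h2]
    constructor
    · intro h3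
      have h4 : b = 1 := e.injective (h3.trans (map_one e).symm)
      rw [h4]
      simp
    · intro h3
      have h4 : (b : G) ∈ X ⊓ S := by
        refine ⟨?_, b.2⟩
        have h5 := mul_mem (inv_mem a.2) h3
        rwa [inv_mul_cancel_left] at h5
      rw [h.botX, mem_bot] at h4
      have h5 : b = 1 := Subtype.ext h4
      rw [h5, map_one]

/-- An element of `N(X)` outside `C(X)` centralizing the regular elements of `C(X)`. -/
theorem exists_t (h : Loc m n X F S) (hm : Nat.card X < m) :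
    ∃ t ∈ F, t ∉ centralizer (X : Set G) := by
  by_contra hcon
  push Not at hcon
  have h1 : F ≤ X := by
    intro t ht
    rw [← h.inf]
    exact ⟨ht, hcon t ht⟩
  have h2 : F = X := le_antisymm h1 h.le
  have h3 := h.cardF
  rw [h2] at h3
  omega

end Loc

/-- **The sign relation from the local structure.** -/
theorem Loc.exists_rel [Finite G] {p : ℕ} [hp : Fact p.Prime] {M : Ideal AlgInt} (hM : IsPModular p M) {x : G}
    (hx : orderOf x = p) (h : Loc m n (zpowers x) F S) (hm : p < m)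
    (θ : IrrCharacter (centralizer ((zpowers x : Subgroup G) : Set G)))
    (hdeg : (Nat.card (centralizer ((zpowers x : Subgroup G) : Set G))).factorization p ≤
      (charDegree (θ : centralizer ((zpowers x : Subgroup G) : Set G) → ℂ)).factorization p + 1) :
    ∃ (B : Set (IrrCharacter G)) (A : Finset (IrrCharacter G)) (δ : IrrCharacter G → ℤ) (e : ℕ),
      IsInducedBlock M (centralizer ((zpowers x : Subgroup G) : Set G))
        (blockOf M (θ : centralizer ((zpowers x : Subgroup G) : Set G) → ℂ)) B ∧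
      IsDefectGroup p M B (zpowers x) ∧ (∀ χ ∈ A, χ ∈ B) ∧ A.card = e + 1 ∧ e ∣ p - 1 ∧ e ≠ 1 ∧ Rel p A δ := by
  obtain ⟨t, ht, htC⟩ := h.exists_t (by rw [Nat.card_zpowers, hx]; exact hm)
  have hord : ∀ y ∈ zpowers x, y ≠ 1 → orderOf y = p := by
    intro y hy hy1
    have h1 : orderOf y ∣ p := by rw [← hx]; exact orderOf_dvd_of_mem_zpowers hy
    rcases (Nat.dvd_prime hp.out).1 h1 with h2 | h2
    · exact absurd (orderOf_eq_one_iff.1 h2) hy1
    · exact h2
  obtain ⟨B, A, δ, e, h1, h2, h3, h4, h5, h6, h7, h8⟩ := DG.exists_rel hM hx rfl θ hdeg t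
    (by rw [← h.sup]; exact mem_sup_left ht) htC (fun c hc => by
      refine ⟨1, ?_⟩
      have h1 : (c : G) ∈ S := h.mem_S_of_reg hord c.2 (by rwa [Subgroup.orderOf_coe])
      rw [h.comm t ht _ h1, mul_inv_cancel_right]
      simp)
  exact ⟨B, A, δ, e, h1, h2, h3, h4, h5, h6, h7, h8⟩

end Cfsg.Agent.H678.DG
end

private theorem dce_ce81785e1f20 : _root_.True := by
  try have : _root_.True := by simp only [_root_.Cfsg.Agent.H653.Sieve.csum.congr_simp]
  exact _root_.True.intro
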